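import Groth.Agent.FlatMor2.ColimCoh.Main
import Groth.Prelude.Def_CohTop
import Mathlib.Topology.Spectral.Prespectral
import Mathlib.Topology.QuasiSeparated

/-!
# Cohomology and filtered colimits on spaces with a basis of compact opens
-/

universe u

open CategoryTheory Limits Opposite TopologicalSpace

namespace Groth.FlatMor2.ColimCoh

variable (X : TopCat.{u})

lemma pi_left_eq_iInf {U : Opens X} {ι : Type u} (Y : ι → Over U) {p : ℕ} (a : Fin (p + 1) → ι) :
    (∏ᶜ fun k => Y (a k)).left = ⨅ k, (Y (a k)).left := by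
  refine le_antisymm (le_iInf fun k => (Over.Hom.left (Pi.π (fun k => Y (a k)) k)).le) ?_
  have h : (⨅ k, (Y (a k)).left) ≤ U := (iInf_le _ 0).trans (Y (a 0)).hom.le
  exact (Over.Hom.left (Pi.lift (P := Over.mk (homOfLE h)) fun k =>
    (Over.homMk (homOfLE (iInf_le _ k)) : Over.mk (homOfLE h) ⟶ Y (a k)))).le

lemma isCompact_iInf {U : Opens X} (hq : IsQuasiSeparated (U : Set X)) :
    ∀ {p : ℕ} (V : Fin (p + 1) → Opens X), (∀ k, V k ≤ U) →
    (∀ k, IsCompact (V k : Set X)) → IsCompact ((⨅ k, V k : Opens X) : Set X)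
  | 0, V, _, h => by
    have : ⨅ k, V k = V 0 := le_antisymm (iInf_le _ 0) (le_iInf fun k => by rw [Fin.fin_one_eq_zero k])
    rw [this]; exact h 0
  | p + 1, V, hVU, h => by
    have e : ⨅ k, V k = V 0 ⊓ ⨅ k : Fin (p + 1), V k.succ :=
      le_antisymm (le_inf (iInf_le _ 0) (le_iInf fun k => iInf_le _ k.succ))
        (le_iInf fun k => Fin.cases inf_le_left (fun k => inf_le_right.trans (iInf_le _ k)) k)
    rw [e, Opens.coe_inf]
    exact hq _ _ (hVU 0) (V 0).2 (h 0)
      (((iInf_le _ 0).trans (hVU _) : (⨅ k : Fin (p + 1), V k.succ) ≤ U))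
      (⨅ k : Fin (p + 1), V k.succ).2 (isCompact_iInf hq _ (fun k => hVU k.succ) fun k => h k.succ)

/-- The basis of compact quasi-separated opens. -/
noncomputable def qcqsBasis [PrespectralSpace X] :
    QcBasis (Opens.grothendieckTopology X) where
  B := {U | IsCompact (U : Set X) ∧ IsQuasiSeparated (U : Set X)}
  Cov U ι Y := Finite ι ∧ (IsCompact (U : Set X) ∧ IsQuasiSeparated (U : Set X)) ∧ U ≤ ⨆ i, (Y i).left ∧
    ∀ i, IsCompact ((Y i).left : Set X)
  cov U ι Y h := by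
    refine ⟨h.1, h.2.1, fun x hx => ?_, fun p a => ?_⟩
    · obtain ⟨i, hi⟩ := Opens.mem_iSup.1 (h.2.2.1 hx)
      exact ⟨_, (Y i).hom, Sieve.ofArrows_mk _ _ i, hi⟩
    · change IsCompact ((∏ᶜ fun k => Y (a k)).left : Set X) ∧
        IsQuasiSeparated ((∏ᶜ fun k => Y (a k)).left : Set X)
      exact ⟨by
        rw [pi_left_eq_iInf]
        exact isCompact_iInf X h.2.1.2 _ (fun k => (Y (a k)).hom.le) fun k => h.2.2.2 (a k),
        h.2.1.2.of_subset (∏ᶜ fun k => Y (a k)).hom.le⟩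
  refine' U hU T hT := by
    have hx : ∀ x : (U : Set X), ∃ (W : Opens X) (h : W ≤ U), IsCompact (W : Set X) ∧ x.1 ∈ W ∧
        T.arrows (homOfLE h) := by
      intro x
      obtain ⟨V, f, hf, hxV⟩ := hT x.1 x.2
      obtain ⟨W, hW, hxW, hWV⟩ := PrespectralSpace.isTopologicalBasis.exists_subset_of_mem_open hxV V.2
      exact ⟨⟨W, hW.1⟩, hWV.trans f.le, hW.2, hxW, T.downward_closed hf (homOfLE hWV)⟩
    choose W hle hW hxW hT' using hx
    obtain ⟨t, ht⟩ := hU.1.elim_finite_subcover (fun x => (W x : Set X)) (fun x => (W x).2)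
      fun x hx => Set.mem_iUnion.2 ⟨⟨x, hx⟩, hxW _⟩
    refine ⟨t, fun x => Over.mk (homOfLE (hle x.1)), ⟨inferInstance, hU, fun y hy => ?_,
      fun x => hW x.1⟩, fun x => hT' x.1⟩
    obtain ⟨x, hx, hyx⟩ := Set.mem_iUnion₂.1 (ht hy)
    exact Opens.mem_iSup.2 ⟨⟨x, hx⟩, hyx⟩

/-- `H^p(U, -)` preserves filtered colimits for compact open `U`. -/
theorem preservesColimit_HU_space [PrespectralSpace X] (U : Opens X)
    (hU : IsCompact (U : Set X)) (hU' : IsQuasiSeparated (U : Set X)) {I : Type u} [SmallCategory I] [IsFiltered I] (p : ℕ)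
    (F : I ⥤ CohTop.Ab X) :
    PreservesColimit F
      ((Sheaf.cohomologyPresheafFunctor (Opens.grothendieckTopology X) p).flip.obj (op U)) :=
  preservesColimit_HU (qcqsBasis X) ⟨hU, hU'⟩ p F

end Groth.FlatMor2.ColimCoh
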