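import Groth.Agent.FlatMor2.ColimCoh.Topos
import Groth.Agent.SitesTopoi.Topos.Algebraic
import Groth.Agent.SiteCohomology.HK
import Groth.Prelude.Def_ToposFin2

/-!
# Filtered colimits and cohomology: coherent topoi and quasi-compact generators
-/

universe u

open CategoryTheory Limits Opposite ToposFin

set_option synthInstance.maxHeartbeats 400000
set_option maxHeartbeats 1000000
set_option linter.style.haveILetI false

namespace Groth.FlatMor2.ColimCoh

open Abelian Groth.SitesTopoi.Topos Groth.SiteCohomology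

variable {C : Type u} [SmallCategory C] {J : GrothendieckTopology C}
  {I : Type u} [SmallCategory I] [IsFiltered I]

/-- From the elementwise statement to preservation of the colimit. -/
theorem preservesColimit_extFunctor {Z : Sheaf J AddCommGrpCat.{u}} {p : ℕ}
    (h : ∀ {F : I ⥤ Sheaf J AddCommGrpCat.{u}} (c : Cocone F), IsColimit c → ExtCommutes Z p c)
    (F : I ⥤ Sheaf J AddCommGrpCat.{u}) :
    PreservesColimit F ((Abelian.extFunctor.{u} p).obj (op Z)) := by
  let H := (Abelian.extFunctor.{u} p).obj (op Z)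
  have h' := h _ (colimit.isColimit F)
  refine preservesColimit_of_preserves_colimit_cocone (colimit.isColimit F) ?_
  haveI : ReflectsColimit (F ⋙ H) (CategoryTheory.forget AddCommGrpCat.{u}) :=
    reflectsColimit_of_reflectsIsomorphisms _ _
  refine isColimitOfReflects (CategoryTheory.forget AddCommGrpCat.{u}) ?_
  refine Types.FilteredColimit.isColimitOf' _ _ ?_ ?_
  · intro x
    obtain ⟨i, y, hy⟩ := h'.exists_rep x
    exact ⟨i, y, hy.symm⟩
  · intro i (x : H.obj (F.obj i)) (y : H.obj (F.obj i)) hxy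
    obtain ⟨k, f, hk⟩ := h'.exists_eq_zero i (x - y) (by
      change H.map ((colimit.cocone F).ι.app i) (x - y) = 0
      rw [map_sub]
      exact sub_eq_zero.2 hxy)
    refine ⟨k, f, ?_⟩
    change H.map (F.map f) (x - y) = 0 at hk
    rw [map_sub, sub_eq_zero] at hk
    exact hk

/-- Transport along an isomorphism of the source object. -/
theorem ExtCommutes.of_iso_left {A : Type*} [Category A] [Abelian A] [HasExt A] {Z Z' : A}
    (e : Z ≅ Z') {p : ℕ} {K : Type u} [SmallCategory K] {F : K ⥤ A} {c : Cocone F}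
    (h : ExtCommutes Z p c) : ExtCommutes Z' p c where
  exists_rep x := by
    obtain ⟨i, y, hy⟩ := h.exists_rep ((Ext.mk₀ e.hom).comp x (zero_add p))
    refine ⟨i, (Ext.mk₀ e.inv).comp y (zero_add p), ?_⟩
    rw [Ext.comp_assoc_of_third_deg_zero, hy]
    simp
  exists_eq_zero i y hy := by
    obtain ⟨k, f, hk⟩ := h.exists_eq_zero i ((Ext.mk₀ e.hom).comp y (zero_add p)) (by
      rw [Ext.comp_assoc_of_third_deg_zero, hy, Ext.comp_zero])
    refine ⟨k, f, ?_⟩
    rw [Ext.comp_assoc_of_third_deg_zero] at hk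
    simpa using congrArg (fun t => (Ext.mk₀ e.inv).comp t (zero_add p)) hk

/-- Two out of three, for a short exact sequence of source objects. -/
theorem ExtCommutes.of_shortExact {A : Type*} [Category A] [Abelian A] [HasExt A]
    {S : ShortComplex A} (hS : S.ShortExact) {p : ℕ} {K : Type u} [SmallCategory K] [IsFiltered K]
    {F : K ⥤ A} {c : Cocone F} (h₁ : ExtCommutes S.X₁ p c) (h₂ : ExtCommutes S.X₂ p c)
    (h₂' : ExtCommutes S.X₂ (p + 1) c) (h₁' : ExtCommutes S.X₁ (p + 1) c) :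
    ExtCommutes S.X₃ (p + 1) c where
  exists_rep x := by
    obtain ⟨i, y, hy⟩ := h₂'.exists_rep ((Ext.mk₀ S.g).comp x (zero_add _))
    obtain ⟨k, f, hf⟩ := h₁'.exists_eq_zero i ((Ext.mk₀ S.f).comp y (zero_add _)) (by
      rw [Ext.comp_assoc_of_third_deg_zero, hy, Ext.mk₀_comp_mk₀_assoc, S.zero, Ext.mk₀_zero,
        Ext.zero_comp])
    rw [Ext.comp_assoc_of_third_deg_zero] at hf
    obtain ⟨z, hz⟩ := Ext.contravariant_sequence_exact₂ hS _ (y.comp (Ext.mk₀ (F.map f)) (add_zero _)) hf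
    obtain ⟨z', hz'⟩ : ∃ z' : Ext S.X₃ c.pt (p + 1),
        z' = z.comp (Ext.mk₀ (c.ι.app k)) (add_zero _) := ⟨_, rfl⟩
    have hd : (Ext.mk₀ S.g).comp (x - z') (zero_add _) = 0 := by
      change (Ext.mk₀ S.g).precomp _ (zero_add _) _ = 0
      rw [map_sub, sub_eq_zero]
      change (Ext.mk₀ S.g).comp x (zero_add _) = (Ext.mk₀ S.g).comp z' (zero_add _)
      rw [hz']
      refine Eq.trans ?_ (Ext.comp_assoc_of_third_deg_zero _ z _ _)
      rw [hz, comp_mk₀_comp_mk₀, c.w, hy]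
    obtain ⟨w, hw⟩ := Ext.contravariant_sequence_exact₃ hS _ _ hd (n₀ := p) (Nat.add_comm 1 p)
    obtain ⟨j, v, hv⟩ := h₁.exists_rep w
    refine ⟨IsFiltered.max k j, z.comp (Ext.mk₀ (F.map (IsFiltered.leftToMax k j))) (add_zero _) +
      (hS.extClass.comp v (Nat.add_comm 1 p)).comp
        (Ext.mk₀ (F.map (IsFiltered.rightToMax k j))) (add_zero _), ?_⟩
    rw [Ext.add_comp, comp_mk₀_comp_mk₀, c.w, comp_mk₀_comp_mk₀, c.w,
      Ext.comp_assoc_of_third_deg_zero, hv, hw, ← hz']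
    abel
  exists_eq_zero i x hx := by
    obtain ⟨k, f, hf⟩ := h₂'.exists_eq_zero i ((Ext.mk₀ S.g).comp x (zero_add _)) (by
      rw [Ext.comp_assoc_of_third_deg_zero, hx, Ext.comp_zero])
    rw [Ext.comp_assoc_of_third_deg_zero] at hf
    obtain ⟨w, hw⟩ := Ext.contravariant_sequence_exact₃ hS _ _ hf (n₀ := p) (Nat.add_comm 1 p)
    have h0 : hS.extClass.comp (w.comp (Ext.mk₀ (c.ι.app k)) (add_zero _)) (Nat.add_comm 1 p) = 0 := by
      rw [← Ext.comp_assoc_of_third_deg_zero _ _ _ (Nat.add_comm 1 p), hw, comp_mk₀_comp_mk₀, c.w, hx]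
    obtain ⟨v, hv⟩ := Ext.contravariant_sequence_exact₁ hS _ _ _ h0
    obtain ⟨j, t, ht⟩ := h₂.exists_rep v
    obtain ⟨l, g, hg⟩ := h₁.exists_eq_zero (IsFiltered.max k j)
      (w.comp (Ext.mk₀ (F.map (IsFiltered.leftToMax k j))) (add_zero _) -
        ((Ext.mk₀ S.f).comp t (zero_add _)).comp (Ext.mk₀ (F.map (IsFiltered.rightToMax k j))) (add_zero _)) (by
      change (Ext.mk₀ (c.ι.app _)).postcomp _ (add_zero p) _ = 0
      rw [map_sub, sub_eq_zero]
      refine (comp_mk₀_comp_mk₀ _ _ _).trans (Eq.trans ?_ (comp_mk₀_comp_mk₀ _ _ _).symm)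
      rw [c.w, c.w, Ext.comp_assoc_of_third_deg_zero, ht, hv])
    refine ⟨l, f ≫ IsFiltered.leftToMax k j ≫ g, ?_⟩
    have hg' : (Ext.mk₀ (F.map g)).postcomp _ (add_zero p) _ = 0 := hg
    rw [map_sub, sub_eq_zero] at hg'
    have h3 : hS.extClass.comp
        (w.comp (Ext.mk₀ (F.map (IsFiltered.leftToMax k j ≫ g))) (add_zero p)) (Nat.add_comm 1 p) = 0 := by
      rw [F.map_comp, ← comp_mk₀_comp_mk₀]
      refine (congrArg (fun s => hS.extClass.comp s (Nat.add_comm 1 p)) hg').trans ?_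
      change hS.extClass.comp ((((Ext.mk₀ S.f).comp t (zero_add _)).comp _ (add_zero _)).comp _
        (add_zero _)) (Nat.add_comm 1 p) = 0
      rw [Ext.comp_assoc_of_third_deg_zero _ t, Ext.comp_assoc_of_third_deg_zero _ (t.comp _ _)]
      exact hS.extClass_comp_assoc _
    rw [← Ext.comp_assoc_of_third_deg_zero, hw, comp_mk₀_comp_mk₀, ← F.map_comp] at h3
    exact h3

/-- Coherent objects of an algebraic topos form a class. -/
noncomputable def coherentClass (hE : IsAlgebraic J) : QcClass J where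
  P := IsCoherent
  qc h := h.1
  of_isPullback {W K L M p q f g} sq hK hL hM :=
    ⟨isQC_of_iso sq.isoPullback.symm (hM.2 _ _ f g hK.1 hL.1),
      (isQS_iff_isQSHom_of_algebraic hE p hK.2).2
        (isQSHom_of_isPullback sq.flip ((isQS_iff_isQSHom_of_algebraic hE g hM.2).1 hL.2))⟩
  refine' {F K} g hK _ := by
    obtain ⟨S, hqc, hgen, hpb, -⟩ := hE
    have hS := genBy_of_isGenerating hgen
    obtain ⟨ι, L, π, hL, hπ⟩ := hS F
    have hg : Covers (fun _ : PUnit.{u + 1} => g) := (covers_single_iff g).2 inferInstance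
    obtain ⟨t, ht⟩ := finite_subcover hK.1 (hg.comp (fun _ => π) (fun _ => hπ))
    have hdis := isDisjointCover_of_isColimit_cofan
      (coproductIsCoproduct fun i : t => L i.1.2)
    refine ⟨∐ fun i : t => L i.1.2, Sigma.desc fun i => π i.1.2,
      ⟨isQC_of_finite_covers hdis.covers fun i : t => hqc _ (hL _),
        hdis.isQS fun i => isQS_of_mem hqc hS hpb (hL _)⟩, ?_⟩
    refine (covers_single_iff _).1 (ht.of_factor (fun _ => PUnit.unit)
      (fun i => Sigma.ι (fun i : t => L i.1.2) i) fun i => ?_)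
    rw [← Category.assoc, Sigma.ι_desc]

/-- The terminal sheaf of sets, concretely. -/
noncomputable def oneSheaf (J : GrothendieckTopology C) : Tp J :=
  ⟨(Functor.const Cᵒᵖ).obj PUnit.{u + 1}, by
    rw [isSheaf_iff_isSheaf_of_type]
    intro X S _ x _
    exact ⟨PUnit.unit, fun _ _ _ => Subsingleton.elim (α := PUnit.{u + 1}) _ _,
      fun _ _ => Subsingleton.elim (α := PUnit.{u + 1}) _ _⟩⟩

/-- It is terminal. -/
noncomputable def isTerminalOneSheaf : IsTerminal (oneSheaf J) :=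
  IsTerminal.ofUniqueHom (fun X => ⟨{ app := fun _ => TypeCat.ofHom fun _ => PUnit.unit }⟩)
    fun X m => Sheaf.hom_ext (NatTrans.ext (funext fun _ => by
      ext x
      exact Subsingleton.elim (α := PUnit.{u + 1}) _ _))

/-- The free abelian sheaf on the terminal sheaf is the constant sheaf `ℤ`. -/
noncomputable def freeTerminalIso :
    (freeT J).obj (⊤_ (Tp J)) ≅
      (constantSheaf J AddCommGrpCat.{u}).obj (AddCommGrpCat.of (ULift.{u} ℤ)) :=
  (freeT J).mapIso (terminalIsTerminal.uniqueUpToIso isTerminalOneSheaf) ≪≫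
  (presheafToSheaf J AddCommGrpCat.{u}).mapIso (NatIso.ofComponents
    (fun _ => AddEquiv.toAddCommGrpIso (X := AddCommGrpCat.free.{u}.obj PUnit.{u + 1})
      (Y := AddCommGrpCat.of (ULift.{u} ℤ))
      ((FreeAbelianGroup.uniqueEquiv PUnit.{u + 1}).trans AddEquiv.ulift.symm))
    (fun {c c'} g => by
      refine AddCommGrpCat.hom_ext ?_
      exact FreeAbelianGroup.lift_ext _ _ fun _ => rfl))

theorem preservesColimit_functorH (𝔓 : QcClass J) (hT : 𝔓.P (⊤_ (Tp J))) (q : ℕ)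
    (F : I ⥤ Sheaf J AddCommGrpCat.{u}) :
    PreservesColimit F (Sheaf.functorH J q : Sheaf J AddCommGrpCat.{u} ⥤ AddCommGrpCat.{u}) := by
  have := preservesColimit_extFunctor (p := q) (fun c hc =>
    (𝔓.extCommutes_freeT hT q c hc).of_iso_left freeTerminalIso) F
  exact preservesColimit_of_natIso F (NatIso.ofComponents (fun _ => Iso.refl _) (fun f => by ext x; rfl) :
    (Abelian.extFunctor.{u} q).obj
      (op ((constantSheaf J AddCommGrpCat.{u}).obj (AddCommGrpCat.of (ULift.{u} ℤ)))) ≅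
        (Sheaf.functorH J q : Sheaf J AddCommGrpCat.{u} ⥤ AddCommGrpCat.{u}))

section Generators

variable (S : Set (Tp J))
  (h4 : ∀ K ∈ S, ∀ K' ∈ S, ∀ (a b : K ⟶ K'),
    ∃ (K'' : Tp J) (g : K'' ⟶ equalizer a b), K'' ∈ S ∧ Epi g)
  (h3 : ∀ K ∈ S, ∀ K' ∈ S, ∃ (K'' : Tp J) (g : K'' ⟶ K ⨯ K'), K'' ∈ S ∧ Epi g)

/-- Covered by a member of `S`. -/
def Cov₁ (X : Tp J) : Prop := ∃ (N : Tp J) (e : N ⟶ X), N ∈ S ∧ Epi e

/-- Covered by a member of `S`, and so are fibre products of members over it. -/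
def IsSCoh (X : Tp J) : Prop :=
  Cov₁ S X ∧ ∀ (M M' : Tp J), M ∈ S → M' ∈ S → ∀ (a : M ⟶ X) (b : M' ⟶ X), Cov₁ S (pullback a b)

variable {S}

lemma Cov₁.of_sections {X Y : Tp J} (h : Cov₁ S X) (f : X ⟶ Y)
    (hf : ∀ (U : C) (y : Y.obj.obj (op U)), ∃ x, ap f x = y) : Cov₁ S Y := by
  obtain ⟨N, e, hN, he⟩ := h
  have : Epi f := (covers_single_iff f).1 fun U y => J.superset_covering (fun V g _ => by
    obtain ⟨x, hx⟩ := hf V (rs Y g y)
    exact ⟨PUnit.unit, x, hx⟩) (J.top_mem U)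
  exact ⟨N, e ≫ f, hN, epi_comp _ _⟩

include h4 in
lemma cov₁_equalizer {X : Tp J} (h : IsSCoh S X) {N : Tp J} (hN : N ∈ S) (a b : N ⟶ X) :
    Cov₁ S (equalizer a b) := by
  obtain ⟨G, e, hG, he⟩ := h.2 N N hN hN a b
  obtain ⟨E, k, hE, hk⟩ := h4 G hG N hN (e ≫ pullback.fst a b) (e ≫ pullback.snd a b)
  let u := equalizer.ι (e ≫ pullback.fst a b) (e ≫ pullback.snd a b)
  have hu : (u ≫ e ≫ pullback.fst a b) ≫ a = (u ≫ e ≫ pullback.fst a b) ≫ b := by
    have h' := equalizer.condition (e ≫ pullback.fst a b) (e ≫ pullback.snd a b)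
    simp only [Category.assoc, pullback.condition]
    simp only [← Category.assoc] at h' ⊢
    rw [h']
  refine ⟨E, k ≫ equalizer.lift _ hu, hE, ?_⟩
  have : Epi (equalizer.lift _ hu : _ ⟶ equalizer a b) := by
    refine (covers_single_iff _).1 fun U z => ?_
    let n := ap (equalizer.ι a b) z
    have hn : ap a n = ap b n := by rw [← ap_comp, ← ap_comp, equalizer.condition]
    obtain ⟨m, hm1, hm2⟩ := pb_sec_lift (IsPullback.of_hasPullback a b) n n hn
    refine J.superset_covering ?_ ((covers_single_iff e).2 he U m)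
    rintro V g ⟨_, r, hr⟩
    obtain ⟨p, hp⟩ := fork_sec_lift (equalizerIsEqualizer (e ≫ pullback.fst a b) (e ≫ pullback.snd a b)) r
      (by rw [ap_comp, ap_comp, hr, ap_rs, ap_rs, hm1, hm2])
    refine ⟨PUnit.unit, p, ?_⟩
    have hinj : ∀ s t : (equalizer a b).obj.obj (op V), ap (equalizer.ι a b) s = ap (equalizer.ι a b) t → s = t :=
      fun s t hst => by
        have : Mono ((sheafToPresheaf J (Type u) ⋙ (evaluation _ _).obj (op V)).map (equalizer.ι a b)) :=
          inferInstance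
        exact (mono_iff_injective _).1 this hst
    apply hinj
    rw [← ap_comp, equalizer.lift_ι, ap_comp, ap_comp, hp, hr, ap_rs, hm1, ap_rs]
  exact epi_comp _ _

include h4 in
lemma isSCoh_pullback {W K L M : Tp J} {p : W ⟶ K} {q : W ⟶ L} {f : K ⟶ M} {g : L ⟶ M}
    (sq : IsPullback p q f g) (hK : IsSCoh S K) (hL : IsSCoh S L) (hM : IsSCoh S M) : IsSCoh S W := by
  obtain ⟨⟨A, a, hA, ha⟩, hK'⟩ := hK
  obtain ⟨⟨B, b, hB, hb⟩, hL'⟩ := hL
  refine ⟨?_, fun M₁ M₂ h₁ h₂ c d => ?_⟩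
  · obtain ⟨N, e, hN, he⟩ := hM.2 A B hA hB (a ≫ f) (b ≫ g)
    let φ : pullback (a ≫ f) (b ≫ g) ⟶ W :=
      sq.lift (pullback.fst _ _ ≫ a) (pullback.snd _ _ ≫ b) (by simp [pullback.condition])
    have : Epi φ := by
      refine (covers_single_iff _).1 fun U w => ?_
      refine J.superset_covering ?_ (J.intersection_covering ((covers_single_iff a).2 ha U (ap p w))
        ((covers_single_iff b).2 hb U (ap q w)))
      rintro V h ⟨⟨_, r, hr⟩, ⟨_, r', hr'⟩⟩
      obtain ⟨z, hz1, hz2⟩ := pb_sec_lift (IsPullback.of_hasPullback (a ≫ f) (b ≫ g)) r r' (by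
        rw [ap_comp, ap_comp, hr, hr', ap_rs, ap_rs, ← ap_comp, ← ap_comp, sq.w])
      refine ⟨PUnit.unit, z, pb_sec_ext sq ?_ ?_⟩
      · rw [← ap_comp, sq.lift_fst, ap_comp, hz1, hr, ap_rs]
      · rw [← ap_comp, sq.lift_snd, ap_comp, hz2, hr', ap_rs]
    exact ⟨N, e ≫ φ, hN, epi_comp _ _⟩
  · obtain ⟨N, e, hN, he⟩ := hK' M₁ M₂ h₁ h₂ (c ≫ p) (d ≫ p)
    let x := (e ≫ pullback.fst _ _ ≫ c) ≫ q
    let y := (e ≫ pullback.snd _ _ ≫ d) ≫ q
    obtain ⟨E, k, hE, hk⟩ := cov₁_equalizer h4 ⟨⟨B, b, hB, hb⟩, hL'⟩ hN x y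
    let ι := equalizer.ι x y
    have hι : (ι ≫ e ≫ pullback.fst _ _) ≫ c = (ι ≫ e ≫ pullback.snd _ _) ≫ d := sq.hom_ext
      (by simp [pullback.condition]) (by simpa [x, y] using equalizer.condition x y)
    let φ : equalizer x y ⟶ pullback c d := pullback.lift _ _ hι
    have : Epi φ := by
      refine (covers_single_iff _).1 fun U z => ?_
      have hz : ap c (ap (pullback.fst c d) z) = ap d (ap (pullback.snd c d) z) := by
        rw [← ap_comp, ← ap_comp, pullback.condition]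
      obtain ⟨m, hm1, hm2⟩ := pb_sec_lift (IsPullback.of_hasPullback (c ≫ p) (d ≫ p))
        (ap (pullback.fst c d) z) (ap (pullback.snd c d) z) (by rw [ap_comp, ap_comp, hz])
      refine J.superset_covering ?_ ((covers_single_iff e).2 he U m)
      rintro V h ⟨_, r, hr⟩
      obtain ⟨w, hw⟩ := fork_sec_lift (equalizerIsEqualizer x y) r (by
        simp only [x, y, ap_comp, hr, ap_rs, hm1, hm2, hz])
      refine ⟨PUnit.unit, w, pb_sec_ext (IsPullback.of_hasPullback c d) ?_ ?_⟩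
      · simp only [φ, ← ap_comp, pullback.lift_fst]
        simp only [ι, ap_comp, hw, hr, ap_rs, hm1]
      · simp only [φ, ← ap_comp, pullback.lift_snd]
        simp only [ι, ap_comp, hw, hr, ap_rs, hm2]
    exact ⟨E, k ≫ φ, hE, epi_comp _ _⟩

include h3 h4 in
lemma isSCoh_of_mem {X : Tp J} (hX : X ∈ S) : IsSCoh S X := by
  refine ⟨⟨X, 𝟙 X, hX, inferInstance⟩, fun M M' hM hM' a b => ?_⟩
  obtain ⟨N, e, hN, he⟩ := h3 M hM M' hM'
  obtain ⟨E, k, hE, hk⟩ := h4 N hN X hX ((e ≫ prod.fst) ≫ a) ((e ≫ prod.snd) ≫ b)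
  let x := (e ≫ prod.fst) ≫ a
  let y := (e ≫ prod.snd) ≫ b
  let φ : equalizer x y ⟶ pullback a b :=
    pullback.lift (equalizer.ι x y ≫ e ≫ prod.fst) (equalizer.ι x y ≫ e ≫ prod.snd)
      (by simpa [x, y] using equalizer.condition x y)
  have : Epi φ := by
    refine (covers_single_iff _).1 fun U z => ?_
    have hz : ap a (ap (pullback.fst a b) z) = ap b (ap (pullback.snd a b) z) := by
      rw [← ap_comp, ← ap_comp, pullback.condition]
    let m := ap (prod.lift (pullback.fst a b) (pullback.snd a b)) z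
    have hm1 : ap prod.fst m = ap (pullback.fst a b) z := by rw [← ap_comp, prod.lift_fst]
    have hm2 : ap prod.snd m = ap (pullback.snd a b) z := by rw [← ap_comp, prod.lift_snd]
    refine J.superset_covering ?_ ((covers_single_iff e).2 he U m)
    rintro V h ⟨_, r, hr⟩
    obtain ⟨w, hw⟩ := fork_sec_lift (equalizerIsEqualizer x y) r (by
      simp only [x, y, ap_comp, hr, ap_rs, hm1, hm2, hz])
    refine ⟨PUnit.unit, w, pb_sec_ext (IsPullback.of_hasPullback a b) ?_ ?_⟩
    · simp only [φ, ← ap_comp, pullback.lift_fst]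
      simp only [ap_comp, hw, hr, ap_rs, hm1]
    · simp only [φ, ← ap_comp, pullback.lift_snd]
      simp only [ap_comp, hw, hr, ap_rs, hm2]
  exact ⟨E, k ≫ φ, hE, epi_comp _ _⟩

include h3 in
lemma isSCoh_terminal (h1 : ∃ K ∈ S, Epi (terminal.from K)) : IsSCoh S (⊤_ (Tp J)) := by
  obtain ⟨K, hK, he⟩ := h1
  refine ⟨⟨K, _, hK, he⟩, fun M M' hM hM' a b => ?_⟩
  obtain ⟨N, e, hN, _⟩ := h3 M hM M' hM'
  refine Cov₁.of_sections ⟨N, e, hN, ‹_›⟩
    (pullback.lift prod.fst prod.snd (terminalIsTerminal.hom_ext _ _)) fun U z => ?_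
  refine ⟨ap (prod.lift (pullback.fst a b) (pullback.snd a b)) z, ?_⟩
  refine pb_sec_ext (IsPullback.of_hasPullback a b) ?_ ?_
  · rw [← ap_comp, ← ap_comp, pullback.lift_fst, prod.lift_fst]
  · rw [← ap_comp, ← ap_comp, pullback.lift_snd, prod.lift_snd]

variable (S) in
/-- The class attached to quasi-compact generators. -/
noncomputable def generatorsClass
    (h2 : ∀ (F : Tp J) (K : Tp J) (g : F ⟶ K), K ∈ S → Epi g →
      ∃ (K' : Tp J) (k : K' ⟶ F), K' ∈ S ∧ Epi (k ≫ g))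
    (h5 : ∀ K ∈ S, CohCx.IsQcObject K) : QcClass J where
  P := IsSCoh S
  qc {X} h := by
    obtain ⟨⟨N, e, hN, he⟩, -⟩ := h
    have hqc : IsQC N := isQC_iff.2 fun ι F π hπ => by
      obtain ⟨t, ht⟩ := h5 N hN ι F π fun U s => ⟨_, hπ U s, fun V g hg => hg⟩
      refine ⟨t, fun U s => ?_⟩
      obtain ⟨R, hR, hR'⟩ := ht U s
      exact J.superset_covering (fun V g hg => hR' V g hg) hR
    exact isQC_of_epi e hqc
  of_isPullback := isSCoh_pullback h4
  refine' {F K} g hK hg := by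
    obtain ⟨⟨M, e, hM, he⟩, -⟩ := hK
    have : Epi (pullback.snd g e) :=
      (covers_single_iff _).1 (((covers_single_iff g).2 hg).pullback_right e)
    obtain ⟨K', k, hK', hk⟩ := h2 _ M (pullback.snd g e) hM this
    refine ⟨K', k ≫ pullback.fst g e, isSCoh_of_mem h4 h3 hK', ?_⟩
    rw [Category.assoc, pullback.condition, ← Category.assoc]
    exact epi_comp _ _

end Generators

/-- Cohomology with supports in the complement of a coherent open. -/
theorem preservesColimit_HZFunctor (hE : IsAlgebraic J) (hT : IsCoherent (⊤_ (Tp J))) (U : Tp J)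
    [Mono (terminal.from U)] (hU : IsCoherent U) (q : ℕ) (F : I ⥤ Sheaf J AddCommGrpCat.{u}) :
    PreservesColimit F (HZFunctor U q) := by
  let 𝔓 := coherentClass hE
  let f := (freeT J).map (terminal.from U)
  have : Mono f := mono_freeSh_map J (terminal.from U).hom
  let S := ShortComplex.mk f (cokernel.π f) (cokernel.condition f)
  have hS : S.ShortExact := { exact := S.exact_of_g_is_cokernel (cokernelIsCokernel f) }
  refine preservesColimit_extFunctor (Z := quotZ U) (p := q) (fun c hc => ?_) F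
  rcases q with _ | p
  · have hT₀ := 𝔓.extCommutes_freeT (K := ⊤_ (Tp J)) hT 0 c hc
    have hU₀ := 𝔓.extCommutes_freeT (K := U) hU 0 c hc
    constructor
    · intro x
      obtain ⟨i, y, hy⟩ := hT₀.exists_rep ((Ext.mk₀ S.g).comp x (zero_add _))
      obtain ⟨k, g, hg⟩ := hU₀.exists_eq_zero i ((Ext.mk₀ S.f).comp y (zero_add _)) (by
        rw [Ext.comp_assoc_of_third_deg_zero, hy, Ext.mk₀_comp_mk₀_assoc, S.zero, Ext.mk₀_zero,
          Ext.zero_comp])
      rw [Ext.comp_assoc_of_third_deg_zero] at hg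
      obtain ⟨z, hz⟩ := Ext.contravariant_sequence_exact₂ hS _ _ hg
      refine ⟨k, z, ?_⟩
      have : Epi S.g := inferInstanceAs (Epi (cokernel.π f))
      obtain ⟨φ, rfl⟩ := (Ext.mk₀_bijective _ _).2 x
      obtain ⟨ψ, rfl⟩ := (Ext.mk₀_bijective _ _).2 z
      obtain ⟨χ, rfl⟩ := (Ext.mk₀_bijective _ _).2 y
      simp only [Ext.mk₀_comp_mk₀] at hz hy ⊢
      refine congrArg Ext.mk₀ ((cancel_epi S.g).1 ?_)
      rw [← Category.assoc, (Ext.mk₀_bijective _ _).1 hz, Category.assoc, c.w]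
      exact (Ext.mk₀_bijective _ _).1 hy
    · intro i x hx
      obtain ⟨k, g, hg⟩ := hT₀.exists_eq_zero i ((Ext.mk₀ S.g).comp x (zero_add _))
        ((Ext.comp_assoc_of_third_deg_zero _ _ _ _).trans
          ((congrArg (fun t => (Ext.mk₀ S.g).comp t (zero_add _)) hx).trans (Ext.comp_zero _ _ _ _ _)))
      refine ⟨k, g, ?_⟩
      have : Epi S.g := inferInstanceAs (Epi (cokernel.π f))
      obtain ⟨φ, rfl⟩ := (Ext.mk₀_bijective _ _).2 x
      simp only [Ext.mk₀_comp_mk₀, Ext.mk₀_eq_zero_iff, Category.assoc] at hg ⊢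
      exact (cancel_epi S.g).1 (hg.trans comp_zero.symm)
  · exact ExtCommutes.of_shortExact hS (𝔓.extCommutes_freeT (K := U) hU p c hc)
      (𝔓.extCommutes_freeT (K := ⊤_ (Tp J)) hT p c hc)
      (𝔓.extCommutes_freeT (K := ⊤_ (Tp J)) hT (p + 1) c hc)
      (𝔓.extCommutes_freeT (K := U) hU (p + 1) c hc)

end Groth.FlatMor2.ColimCoh
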