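import Groth.Agent.SitesTopoi.Topos.Eps
import Groth.Agent.FlatMor2.ColimCoh.ToposApps
import Mathlib.CategoryTheory.Limits.Preserves.Shapes.BinaryProducts

/-!
# Sites all whose objects are quasi-compact

A small site with fibre products and binary products in which all objects are quasi-compact has an
algebraic topos; if moreover finitely many objects cover everything, the topos is coherent and
cohomology commutes with filtered colimits.
-/

universe u

open CategoryTheory Limits Opposite ToposFin

set_option linter.style.haveILetI false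

namespace Groth.FlatMor2.ColimCoh.QCSite

open Groth.SitesTopoi.Topos

variable {C : Type u} [SmallCategory C] {J : GrothendieckTopology C} [HasPullbacks C] [HasBinaryProducts C]

/-- The sheaf associated to a product is the product of the associated sheaves. -/
lemma isPullback_eps_prod (U V : C) :
    IsPullback (epsMap (J := J) (prod.fst : U ⨯ V ⟶ U)) (epsMap (prod.snd : U ⨯ V ⟶ V))
      (terminal.from _) (terminal.from _) :=
  IsPullback.of_isLimit_binaryFan_of_isTerminal
    (mapIsLimitOfPreservesOfIsLimit (yoneda ⋙ presheafToSheaf J (Type u)) _ _ (prodIsProd U V)) terminalIsTerminal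

variable (hC : ∀ X : C, IsQCSite J X)
include hC


lemma isQS_terminal : IsQS (⊤_ (Tp J)) := by
  refine (isQS_iff_gen (genBy_eps J) (isQC_of_genEps hC)).2 ?_
  rintro _ ⟨U, rfl⟩ a
  refine (isQCHom_iff_gen (genBy_eps J) (isQC_of_genEps hC) a).2 ?_
  rintro _ ⟨V, rfl⟩ b
  obtain rfl : a = terminal.from _ := terminal.hom_ext _ _
  obtain rfl : b = terminal.from _ := terminal.hom_ext _ _
  exact isQC_of_iso (isPullback_eps_prod U V).isoPullback (isQC_of_genEps hC _ ⟨U ⨯ V, rfl⟩)

lemma isQSHom_terminal_from {K : Tp J} (hK : IsQS K) : IsQSHom (terminal.from K) := by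
  refine isQSHom_of_cover_qs (genBy_eps J) (isQC_of_genEps hC) (covers_epsLift K)
    (fun p => isQC_of_genEps hC _ ⟨p.1, rfl⟩) (fun p q => ?_) hK
  exact isQS_of_iso ((isPullback_eps_prod p.1 q.1).isoPullback ≪≫
    pullback.congrHom (terminal.hom_ext _ _) (terminal.hom_ext _ _)) (isQS_eps hC _)

lemma isQS_prod {K L : Tp J} (hK : IsQS K) (hL : IsQS L) : IsQS (K ⨯ L) :=
  isQS_of_isQSHom (f := prod.snd) (isQSHom_of_isPullback
    (IsPullback.of_isLimit_binaryFan_of_isTerminal (prodIsProd K L) terminalIsTerminal)
    (isQSHom_terminal_from hC hK)) hL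

/-- The topos of such a site is algebraic. -/
theorem isAlgebraic : IsAlgebraic J := by
  refine ⟨{K | IsCoherent K}, fun K hK => hK.1, fun X => ?_, ?_, ?_⟩
  · exact ⟨_, fun p : Σ U : C, X.obj.obj (op U) => epsObj p.1, fun p => epsLift p.2,
      fun p => isCoherent_eps hC p.1, fun Z a b h => (covers_epsLift X).ext h⟩
  · intro K L M f g hK hL hM
    exact ⟨pullback f g, pullback.fst f g, pullback.snd f g,
      ⟨hM.2 _ _ f g hK.1 hL.1, isQS_pullback_of_isQS_prod f g (isQS_prod hC hK.2 hL.2)⟩,
      IsPullback.of_hasPullback f g⟩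
  · intro K L a b hK hL
    refine ⟨equalizer a b, equalizer.ι a b, equalizer.condition a b,
      ⟨?_, isQS_of_mono (equalizer.ι a b) hK.2⟩, ⟨equalizerIsEqualizer a b⟩⟩
    have sq : IsPullback (equalizer.ι a b) (equalizer.ι a b ≫ a) (prod.lift a b) (diag L) := by
      refine IsPullback.of_isLimit' ⟨?_⟩ (PullbackCone.IsLimit.mk _
        (fun s => equalizer.lift s.fst ?_) (fun s => equalizer.lift_ι _ _) (fun s => ?_)
        (fun s m h₁ h₂ => equalizer.hom_ext (h₁.trans (equalizer.lift_ι _ _).symm)))
      · refine Limits.prod.hom_ext ?_ ?_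
        · simp only [Category.assoc, prod.lift_fst, Category.comp_id]
        · simp only [Category.assoc, prod.lift_snd, Category.comp_id]
          exact (equalizer.condition a b).symm
      · have h1 := s.condition =≫ prod.fst
        have h2 := s.condition =≫ prod.snd
        simp only [Category.assoc, prod.lift_fst, prod.lift_snd, Category.comp_id] at h1 h2
        exact h1.trans h2.symm
      · have h1 := s.condition =≫ prod.fst
        simp only [Category.assoc, prod.lift_fst, Category.comp_id] at h1
        rw [← Category.assoc, equalizer.lift_ι]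
        exact h1
    exact isQC_of_iso sq.isoPullback.symm ((isQS_prod hC hL.2 hL.2) _ _ _ _ hK.1 hL.1)

/-- The terminal sheaf is coherent as soon as finitely many objects cover everything. -/
theorem isCoherent_terminal {n : ℕ} (U : Fin n → C)
    (hU : ∀ W : C, Sieve.ofArrows (fun i => W ⨯ U i) (fun i => (prod.fst : W ⨯ U i ⟶ W)) ∈ J W) :
    IsCoherent (⊤_ (Tp J)) := by
  refine ⟨?_, isQS_terminal hC⟩
  refine isQC_of_finite_covers (π := fun i : ULift.{u} (Fin n) => terminal.from (epsObj (J := J) (U i.down)))
    (fun W s => J.superset_covering ?_ (hU W)) fun i => isQC_of_genEps hC _ ⟨_, rfl⟩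
  have hs : ∀ {V : C} (x y : (⊤_ (Tp J)).obj.obj (op V)), x = y := fun {V} x y => by
    have h := congrArg (fun φ => ap φ (epsSec (J := J) (𝟙 V))) (terminal.hom_ext (epsLift x) (epsLift y))
    simpa only [ap_epsLift, rs_id] using h
  intro V g hg
  obtain ⟨i, l, rfl⟩ := Sieve.mem_ofArrows_iff _ _ g |>.1 hg
  exact ⟨⟨i⟩, epsSec (l ≫ prod.snd), hs _ _⟩

variable {I : Type u} [SmallCategory I] [IsFiltered I]

theorem preservesColimitsOfShape_functorH {n : ℕ} (U : Fin n → C)
    (hU : ∀ W : C, Sieve.ofArrows (fun i => W ⨯ U i) (fun i => (prod.fst : W ⨯ U i ⟶ W)) ∈ J W) (q : ℕ) :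
    PreservesColimitsOfShape I
      (Sheaf.functorH J q : Sheaf J AddCommGrpCat.{u} ⥤ AddCommGrpCat.{u}) :=
  ⟨fun {F} => preservesColimit_functorH (coherentClass (isAlgebraic hC))
    (isCoherent_terminal hC U hU) q F⟩

end Groth.FlatMor2.ColimCoh.QCSite
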