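import Groth.Agent.FlatMor2.ColimCoh.ExtColim
import Groth.Agent.EtaleBase.Limit.Acyclic
import Groth.Prelude.Def_EtBase
import Mathlib.CategoryTheory.Category.ULift

/-!
# Étale cohomology of a quasi-compact quasi-separated scheme commutes with filtered colimits

Filtered colimits of injective sheaves have vanishing Čech cohomology on quasi-compact
quasi-separated objects, hence (trivial limit system) vanishing cohomology.
-/

set_option autoImplicit false
set_option linter.style.haveILetI false

universe u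

open CategoryTheory CategoryTheory.Limits CategoryTheory.Abelian AlgebraicGeometry Opposite

namespace Groth.FlatMor2.ColimCoh.Etale

open Groth.EtaleBase

variable (X : Scheme.{u})

/-- Base change along the identity. -/
noncomputable def bcIdIso : EtCoh.bc (𝟙 X) ≅ 𝟭 X.Etale :=
  NatIso.ofComponents
    (fun A => MorphismProperty.Over.isoMk
      (@asIso _ _ _ _ (pullback.fst A.hom (𝟙 X))
        ((IsPullback.of_hasPullback A.hom (𝟙 X)).isIso_fst_of_isIso (IsIso.id X)))
      (by
        change pullback.fst A.hom (𝟙 X) ≫ A.hom = pullback.snd A.hom (𝟙 X)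
        rw [pullback.condition, Category.comp_id]))
    (fun {A B} g => MorphismProperty.Over.Hom.ext (by
      change pullback.lift _ _ _ ≫ pullback.fst B.hom (𝟙 X) = pullback.fst A.hom (𝟙 X) ≫ g.left
      exact pullback.lift_fst _ _ _))

/-- Direct image along the identity. -/
noncomputable def pushIdIso : EtCoh.push (𝟙 X) ≅ 𝟭 (EtCoh.Ab X) :=
  Functor.sheafPushforwardContinuousId' (bcIdIso X) _ _

/-- The constant system. -/
noncomputable abbrev constSys : (PUnit.{u + 1})ᵒᵖ ⥤ Scheme.{u} := (Functor.const _).obj X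

/-- Its limit cone. -/
noncomputable abbrev constCone : Cone (constSys X) :=
  { pt := X, π := { app := fun _ => 𝟙 X } }

/-- The constant cone is a limit. -/
noncomputable def isLimitConstCone : IsLimit (constCone X) where
  lift s := s.π.app (op ⟨⟩)
  fac s j := by
    obtain ⟨⟨⟩⟩ := j
    exact Category.comp_id _
  uniq s m hm := by simpa using hm (op ⟨⟩)

variable {X} {I : Type (u + 1)} [SmallCategory I] [IsFiltered I]

instance preservesColimits_push_id :
    PreservesColimitsOfShape I (EtCoh.push (𝟙 X)) :=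
  preservesColimitsOfShape_of_natIso (pushIdIso X).symm

/-- Filtered colimits of injective sheaves have vanishing Čech cohomology. -/
theorem acyc_colimit (G : I ⥤ EtCoh.Ab X) (hG : ∀ i, Injective (G.obj i)) :
    EtLimit.Acyc (constCone X) (colimit G) := by
  intro L U κ _ Uf hU hUf n
  let T := EtCoh.push (𝟙 X) ⋙ sheafToPresheaf X.smallEtaleTopology AddCommGrpCat.{u + 1} ⋙
    EtCech.cechHFunctor Uf (n + 1)
  haveI := CechFiltered.preservesColimitsOfShape_cechH (I := I) Uf hU hUf (n + 1)
  haveI := preservesColimits_push_id (X := X) (I := I)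
  haveI : PreservesColimitsOfShape I T :=
    @Limits.comp_preservesColimitsOfShape _ _ _ _ _ _ _ _ (EtCoh.push (𝟙 X))
      (sheafToPresheaf X.smallEtaleTopology AddCommGrpCat.{u + 1} ⋙ EtCech.cechHFunctor Uf (n + 1))
      (preservesColimits_push_id (X := X) (I := I))
      (CechFiltered.preservesColimitsOfShape_cechH (I := I) Uf hU hUf (n + 1))
  have hc := isColimitOfPreserves T (colimit.isColimit G)
  have h0 : ∀ i, IsZero (T.obj (G.obj i)) := fun i =>
    haveI : Injective (G.obj i) := hG i
    EtLimit.acyc_injective (constCone X) (G.obj i) L U κ Uf hU hUf n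
  change IsZero (T.mapCocone (colimit.cocone G)).pt
  rw [IsZero.iff_id_eq_zero]
  exact hc.hom_ext fun i => (h0 i).eq_of_src _ _

variable [CompactSpace X] [QuasiSeparatedSpace X]

omit [IsFiltered I] in
/-- Elementwise transport to sections. -/
lemma equiv₀_comp {F G : EtCoh.Ab X} (f : F ⟶ G) (x : Sheaf.H F 0) :
    Sheaf.H.equiv₀ G (EtCore.topIsTerminal X) (x.comp (Ext.mk₀ f) (add_zero 0)) =
      f.hom.app (op (EtCoh.top X)) (Sheaf.H.equiv₀ F (EtCore.topIsTerminal X) x) :=
  (Sheaf.H.equiv₀_naturality (hT := EtCore.topIsTerminal X) f x).symm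

theorem extCommutes_zero (F : I ⥤ EtCoh.Ab X) :
    ExtCommutes ((constantSheaf X.smallEtaleTopology AddCommGrpCat.{u + 1}).obj
      (AddCommGrpCat.of (ULift.{u + 1} ℤ))) 0 (colimit.cocone F) := by
  have : CompactSpace ↥(EtCoh.top X).left := ‹CompactSpace X›
  have : QuasiSeparatedSpace ↥(EtCoh.top X).left := ‹QuasiSeparatedSpace X›
  refine ⟨fun x => ?_, fun i y hy => ?_⟩
  · obtain ⟨i, t, ht⟩ := FilteredSec.exists_rep (colimit.cocone F) (colimit.isColimit F)
      (Sheaf.H.equiv₀ _ (EtCore.topIsTerminal X) x)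
    refine ⟨i, (Sheaf.H.equiv₀ _ (EtCore.topIsTerminal X)).symm t,
      (Sheaf.H.equiv₀ _ (EtCore.topIsTerminal X)).injective ?_⟩
    rw [equiv₀_comp, AddEquiv.apply_symm_apply]
    exact ht
  · have h := congrArg (Sheaf.H.equiv₀ _ (EtCore.topIsTerminal X)) hy
    rw [equiv₀_comp, map_zero] at h
    obtain ⟨k, f, f', e⟩ := FilteredSec.exists_eq (colimit.cocone F) (colimit.isColimit F)
      (Sheaf.H.equiv₀ _ (EtCore.topIsTerminal X) y)
      (0 : ToType ((F.obj i).obj.obj (op (EtCoh.top X)))) (h.trans (map_zero _).symm)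
    refine ⟨k, f, (Sheaf.H.equiv₀ _ (EtCore.topIsTerminal X)).injective ?_⟩
    rw [equiv₀_comp, map_zero]
    exact e.trans (map_zero _)

theorem subsingleton_H_colimit (G : I ⥤ EtCoh.Ab X) (hG : ∀ i, Injective (G.obj i)) (p : ℕ) :
    Subsingleton (EtCoh.H X (colimit G) (p + 1)) := by
  haveI : ∀ p : (PUnit.{u + 1})ᵒᵖ, CompactSpace ↥((constSys X).obj p) := fun _ => ‹CompactSpace X›
  haveI : ∀ p : (PUnit.{u + 1})ᵒᵖ, QuasiSeparatedSpace ↥((constSys X).obj p) := fun _ => ‹QuasiSeparatedSpace X›
  haveI : ∀ (p q : (PUnit.{u + 1})ᵒᵖ) (h : p ⟶ q), IsAffineHom ((constSys X).map h) :=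
    fun _ _ _ => inferInstanceAs (IsAffineHom (𝟙 X))
  exact EtLimit.H_of_acyc (isLimitConstCone X) p (colimit G) (acyc_colimit G hG)

/-- Elementwise form. -/
theorem extCommutes_H (n : ℕ) {F : I ⥤ EtCoh.Ab X} (c : Cocone F) (hc : IsColimit c) :
    ExtCommutes ((constantSheaf X.smallEtaleTopology AddCommGrpCat.{u + 1}).obj
      (AddCommGrpCat.of (ULift.{u + 1} ℤ))) n c :=
  extCommutes (injEmb _) (injEmbι _) _ extCommutes_zero
    (fun G hG q => subsingleton_H_colimit G hG q) n c hc

variable (X) (I) in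
theorem preservesColimitsOfShape_HF (n : ℕ) :
    PreservesColimitsOfShape I (EtCoh.HF X n) := by
  refine ⟨fun {F} => ⟨fun {c} hc => ?_⟩⟩
  have h := extCommutes_H n c hc
  haveI : ReflectsColimit (F ⋙ EtCoh.HF X n) (CategoryTheory.forget AddCommGrpCat.{u + 1}) :=
    reflectsColimit_of_reflectsIsomorphisms _ _
  refine ⟨isColimitOfReflects (CategoryTheory.forget AddCommGrpCat.{u + 1}) ?_⟩
  refine Types.FilteredColimit.isColimitOf' _ _ ?_ ?_
  · intro x
    obtain ⟨i, y, hy⟩ := h.exists_rep x
    exact ⟨i, y, hy.symm⟩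
  · intro i (x : (EtCoh.HF X n).obj (F.obj i)) (y : (EtCoh.HF X n).obj (F.obj i)) hxy
    obtain ⟨k, f, hk⟩ := h.exists_eq_zero i (x - y) (by
      change (EtCoh.HF X n).map (c.ι.app i) (x - y) = 0
      rw [map_sub]
      exact sub_eq_zero.2 hxy)
    refine ⟨k, f, ?_⟩
    change (EtCoh.HF X n).map (F.map f) (x - y) = 0 at hk
    rw [map_sub, sub_eq_zero] at hk
    exact hk

/-- The form for small index categories. -/
theorem preservesColimitsOfShape_HF_small (n : ℕ) (J : Type u) [SmallCategory J] [IsFiltered J] :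
    PreservesColimitsOfShape J (EtCoh.HF X n) := by
  haveI : IsFiltered (AsSmall.{u + 1} J) := IsFiltered.of_equivalence AsSmall.equiv
  haveI := preservesColimitsOfShape_HF X (AsSmall.{u + 1} J) n
  exact preservesColimitsOfShape_of_equiv (AsSmall.equiv (C := J)).symm _

end Groth.FlatMor2.ColimCoh.Etale
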