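import Groth.Agent.FlatMor2.ColimCoh.Sections
import Mathlib.Algebra.Homology.ShortComplex.HomologicalComplex
import Mathlib.Algebra.Category.Grp.Limits

/-!
# Čech cohomology of filtered colimits of abelian sheaves
-/

universe u

open CategoryTheory Limits Opposite

set_option synthInstance.maxHeartbeats 400000
set_option maxHeartbeats 1000000

namespace Groth.FlatMor2.ColimCoh

variable {C : Type u} [SmallCategory C] [HasPullbacks C] {J : GrothendieckTopology C}
  {I : Type u} [SmallCategory I] [IsFiltered I] {F : I ⥤ Sheaf J AddCommGrpCat.{u}} {c : Cocone F}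

omit [HasPullbacks C] [IsFiltered I] in
lemma map_map_sheafHom (T : Sheaf J AddCommGrpCat.{u} ⥤ AddCommGrpCat.{u})
    {A B D : Sheaf J AddCommGrpCat.{u}} (f : A ⟶ B) (g : B ⟶ D) (x : T.obj A) :
    T.map (f ≫ g) x = T.map g (T.map f x) := by
  rw [T.map_comp]; rfl

omit [HasPullbacks C] in
/-- A functor which is, elementwise, a finite product of functors commuting with a colimit
commutes with it. -/
theorem Commutes.of_proj {T : Sheaf J AddCommGrpCat.{u} ⥤ AddCommGrpCat.{u}} {κ : Type u} [Finite κ]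
    {T' : κ → Sheaf J AddCommGrpCat.{u} ⥤ AddCommGrpCat.{u}} (π : ∀ a, T ⟶ T' a)
    (hext : ∀ (G : Sheaf J AddCommGrpCat.{u}) (x y : T.obj G),
      (∀ a, (π a).app G x = (π a).app G y) → x = y)
    (hsurj : ∀ (G : Sheaf J AddCommGrpCat.{u}) (f : ∀ a, (T' a).obj G),
      ∃ x : T.obj G, ∀ a, (π a).app G x = f a)
    (h : ∀ a, Commutes J (T' a) c) : Commutes J T c where
  exists_rep x := by
    choose i y hy using fun a => (h a).exists_rep ((π a).app c.pt x)
    obtain ⟨K, hK⟩ := exists_bound i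
    obtain ⟨z, hz⟩ := hsurj (F.obj K) fun a => (T' a).map (F.map (hK a).some) (y a)
    refine ⟨K, z, hext _ _ _ fun a => ?_⟩
    refine Eq.trans ?_ (hy a)
    refine (NatTrans.naturality_apply (π a) (c.ι.app K) z).trans
      ((congrArg ((T' a).map (c.ι.app K)) (hz a)).trans ?_)
    rw [← map_map_sheafHom, c.w]
  exists_eq_zero i y hy := by
    choose k f hf using fun a => (h a).exists_eq_zero i ((π a).app (F.obj i) y)
      ((NatTrans.naturality_apply (π a) (c.ι.app i) y).symm.trans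
        ((congrArg ((π a).app c.pt) hy).trans (map_zero _)))
    obtain ⟨K, n, hn⟩ := exists_common i k f
    refine ⟨K, n, hext _ _ _ fun a => ?_⟩
    obtain ⟨r, hr⟩ := hn a
    rw [map_zero, NatTrans.naturality_apply (π a) (F.map n) y, ← hr, F.map_comp,
      map_map_sheafHom, hf a, map_zero]

variable {U : C} {ι : Type u} (Yf : ι → Over U)

/-- The Čech complex, as a functor on sheaves. -/
noncomputable abbrev cechFun : Sheaf J AddCommGrpCat.{u} ⥤ CochainComplex AddCommGrpCat.{u} ℕ :=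
  sheafToPresheaf J _ ⋙ (Functor.whiskeringLeft _ _ _).obj (Over.forget U).op ⋙
    cechComplexFunctor Yf

/-- The `p`-th term of the Čech complex. -/
noncomputable abbrev cechTerm (p : ℕ) : Sheaf J AddCommGrpCat.{u} ⥤ AddCommGrpCat.{u} :=
  cechFun (J := J) Yf ⋙ HomologicalComplex.eval _ _ p

/-- The projection of the `p`-th term of the Čech complex to a factor. -/
noncomputable def cechProj (p : ℕ) (a : Fin (p + 1) → ι) :
    cechTerm (J := J) Yf p ⟶ sect J (∏ᶜ fun k => Yf (a k)).left where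
  app G := Pi.π (fun b : Fin (p + 1) → ι => G.obj.obj (op (∏ᶜ fun k => Yf (b k)).left)) a
  naturality _ _ φ := Pi.map_π
    (fun b : Fin (p + 1) → ι => φ.hom.app (op (∏ᶜ fun k => Yf (b k)).left)) a

lemma cechTerm_ext (p : ℕ) (G : Sheaf J AddCommGrpCat.{u}) (x y : (cechTerm (J := J) Yf p).obj G)
    (h : ∀ a, (cechProj Yf p a).app G x = (cechProj Yf p a).app G y) : x = y :=
  Concrete.limit_ext (Discrete.functor
    fun b : Fin (p + 1) → ι => G.obj.obj (op (∏ᶜ fun k => Yf (b k)).left)) x y fun a => h a.as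

lemma cechTerm_surj (p : ℕ) (G : Sheaf J AddCommGrpCat.{u})
    (f : ∀ a : Fin (p + 1) → ι, G.obj.obj (op (∏ᶜ fun k => Yf (a k)).left)) :
    ∃ x : (cechTerm (J := J) Yf p).obj G, ∀ a, (cechProj Yf p a).app G x = f a :=
  ⟨(Concrete.productEquiv fun b : Fin (p + 1) → ι =>
      G.obj.obj (op (∏ᶜ fun k => Yf (b k)).left)).symm f, fun a =>
    Concrete.productEquiv_symm_apply_π
      (fun b : Fin (p + 1) → ι => G.obj.obj (op (∏ᶜ fun k => Yf (b k)).left)) f a⟩

variable (𝔅 : QcBasis J) (hY : 𝔅.Cov U ι Yf) (hc : IsColimit c)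

include hY hc in
theorem commutes_cechTerm (p : ℕ) : Commutes J (cechTerm (J := J) Yf p) c :=
  have := (𝔅.cov U ι Yf hY).1
  Commutes.of_proj (T' := fun a => sect J (∏ᶜ fun k => Yf (a k)).left) (cechProj Yf p) (cechTerm_ext Yf p) (cechTerm_surj Yf p) fun a =>
    commutes_sect c 𝔅 hc ((𝔅.cov U ι Yf hY).2.2.2 p a)

include hY hc in
/-- A colimit of sheaves with vanishing Čech cohomology has vanishing Čech cohomology. -/
theorem isZero_cechH_colimit (p : ℕ)
    (h : ∀ i, IsZero (CohCx.cechH (F.obj i).obj Yf (p + 1))) :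
    IsZero (CohCx.cechH c.pt.obj Yf (p + 1)) := by
  let K := cechFun (J := J) Yf
  have hex : ∀ G : Sheaf J AddCommGrpCat.{u}, IsZero (CohCx.cechH G.obj Yf (p + 1)) ↔
      ((K.obj G).sc' p (p + 1) (p + 2)).Exact := fun G => by
    refine (HomologicalComplex.exactAt_iff_isZero_homology (K.obj G) (p + 1)).symm.trans ?_
    exact HomologicalComplex.exactAt_iff' _ _ _ _ (by simp) (by simp)
  rw [hex, ShortComplex.ab_exact_iff]
  intro (z : (cechTerm (J := J) Yf (p + 1)).obj c.pt) hz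
  obtain ⟨i, y, hy⟩ := (commutes_cechTerm Yf 𝔅 hY hc (p + 1)).exists_rep z
  have hd : ∀ (G H : Sheaf J AddCommGrpCat.{u}) (φ : G ⟶ H) (a b : ℕ) (x : (K.obj G).X a),
      (K.obj H).d a b ((K.map φ).f a x) = (K.map φ).f b ((K.obj G).d a b x) :=
    fun G H φ a b x => (ConcreteCategory.comp_apply _ _ _).symm.trans
      ((ConcreteCategory.congr_hom ((K.map φ).comm a b) x).trans (ConcreteCategory.comp_apply _ _ _))
  subst hy
  obtain ⟨k, f, hk⟩ := (commutes_cechTerm Yf 𝔅 hY hc (p + 2)).exists_eq_zero i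
    ((K.obj (F.obj i)).d (p + 1) (p + 2) y) ((hd _ _ (c.ι.app i) _ _ y).symm.trans hz)
  have hk' : (K.obj (F.obj k)).d (p + 1) (p + 2) ((K.map (F.map f)).f (p + 1) y) = 0 :=
    (hd _ _ _ _ _ y).trans hk
  obtain ⟨b, hb⟩ := (ShortComplex.ab_exact_iff _).1 ((hex _).1 (h k)) _ hk'
  refine ⟨(K.map (c.ι.app k)).f p b, (hd _ _ _ p (p + 1) b).trans ?_⟩
  refine (congrArg ((K.map (c.ι.app k)).f (p + 1)) hb).trans ?_
  refine (map_map_sheafHom (cechTerm (J := J) Yf (p + 1)) (F.map f) (c.ι.app k) y).symm.trans ?_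
  rw [c.w f]

end Groth.FlatMor2.ColimCoh
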