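import Mathlib.Algebra.Homology.DerivedCategory.Ext.ExactSequences
import Mathlib.CategoryTheory.Abelian.GrothendieckAxioms.Colim
import Mathlib.CategoryTheory.Abelian.GrothendieckCategory.EnoughInjectives
import Mathlib.CategoryTheory.Limits.Types.Filtered
import Mathlib.CategoryTheory.Abelian.Injective.Ext
import Mathlib.Algebra.Homology.DerivedCategory.Ext.EnoughInjectives
import Mathlib.Algebra.Category.Grp.FilteredColimits

/-!
# `Ext^p(Z, -)` and filtered colimits

If `Hom(Z, -)` commutes with filtered colimits of shape `I` and `Ext^{p+1}(Z, -)` kills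
colimits of objectwise injective diagrams, then all `Ext^p(Z, -)` commute with colimits of
shape `I`.
-/

universe w v u u'

open CategoryTheory Limits ZeroObject

namespace Groth.FlatMor2.ColimCoh

open Abelian

variable {A : Type u} [Category.{v} A] [Abelian A] [HasExt.{w} A]
  {I : Type u'} [SmallCategory I]

/-- `Ext^p(Z, -)` commutes with the colimit given by `c`, in terms of elements. -/
structure ExtCommutes (Z : A) (p : ℕ) {F : I ⥤ A} (c : Cocone F) : Prop where
  exists_rep : ∀ x : Ext Z c.pt p, ∃ (i : I) (y : Ext Z (F.obj i) p),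
    y.comp (Ext.mk₀ (c.ι.app i)) (add_zero p) = x
  exists_eq_zero : ∀ (i : I) (y : Ext Z (F.obj i) p),
    y.comp (Ext.mk₀ (c.ι.app i)) (add_zero p) = 0 →
      ∃ (k : I) (f : i ⟶ k), y.comp (Ext.mk₀ (F.map f)) (add_zero p) = 0

lemma comp_mk₀_comp_mk₀ {Z B C D : A} {p : ℕ} (x : Ext Z B p) (f : B ⟶ C) (g : C ⟶ D) :
    (x.comp (Ext.mk₀ f) (add_zero p)).comp (Ext.mk₀ g) (add_zero p) =
      x.comp (Ext.mk₀ (f ≫ g)) (add_zero p) := by
  rw [Ext.comp_assoc_of_third_deg_zero, Ext.mk₀_comp_mk₀]

/-- Transport along an isomorphism of cocones. -/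
lemma ExtCommutes.of_iso {Z : A} {p : ℕ} {F : I ⥤ A} {c c' : Cocone F}
    (h : ExtCommutes Z p c) (e : c ≅ c') : ExtCommutes Z p c' where
  exists_rep x := by
    obtain ⟨i, y, hy⟩ := h.exists_rep (x.comp (Ext.mk₀ e.inv.hom) (add_zero p))
    refine ⟨i, y, ?_⟩
    have := congrArg (fun t => Ext.comp t (Ext.mk₀ e.hom.hom) (add_zero p)) hy
    simp only [comp_mk₀_comp_mk₀] at this
    rw [CoconeMorphism.w, ← Cocone.category_comp_hom, Iso.inv_hom_id] at this
    simpa using this
  exists_eq_zero i y hy := h.exists_eq_zero i y (by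
    have := congrArg (fun t => Ext.comp t (Ext.mk₀ e.inv.hom) (add_zero p)) hy
    simp only [comp_mk₀_comp_mk₀, Ext.zero_comp] at this
    rwa [CoconeMorphism.w] at this)

lemma extClass_map_comm {S T : ShortComplex A} (hS : S.ShortExact) (hT : T.ShortExact) (φ : S ⟶ T)
    {Z : A} {p : ℕ} (y : Ext Z S.X₃ p) :
    (y.comp hS.extClass rfl).comp (Ext.mk₀ φ.τ₁) (add_zero (p + 1)) =
      (y.comp (Ext.mk₀ φ.τ₃) (add_zero p)).comp hT.extClass rfl := by
  rw [Ext.comp_assoc_of_third_deg_zero, ShortComplex.ShortExact.extClass_naturality hS hT φ,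
    ← Ext.comp_assoc_of_second_deg_zero]

section

variable [IsFiltered I] [HasColimitsOfShape I A] [HasExactColimitsOfShape I A]

instance : (colim (J := I) (C := A)).Additive :=
  haveI : PreservesBinaryBiproducts (colim (J := I) (C := A)) :=
    preservesBinaryBiproducts_of_preservesBinaryCoproducts _
  Functor.additive_of_preservesBinaryBiproducts _

variable {S : ShortComplex (I ⥤ A)} (hS : S.ShortExact)

include hS

lemma shortExact_colim : (S.map (colim (J := I) (C := A))).ShortExact :=
  hS.map_of_exact _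

lemma shortExact_app (i : I) : (S.map ((evaluation I A).obj i)).ShortExact :=
  hS.map_of_exact _

omit hS in
/-- The morphism from the sequence at a stage to the colimit sequence. -/
noncomputable def stageHom (S : ShortComplex (I ⥤ A)) (i : I) :
    S.map ((evaluation I A).obj i) ⟶ S.map (colim (J := I) (C := A)) where
  τ₁ := colimit.ι S.X₁ i
  τ₂ := colimit.ι S.X₂ i
  τ₃ := colimit.ι S.X₃ i
  comm₁₂ := (colimit.ι_map S.f i).trans rfl
  comm₂₃ := (colimit.ι_map S.g i).trans rfl

omit hS in
/-- The morphism between the sequences at two stages. -/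
def transHom (S : ShortComplex (I ⥤ A)) {i k : I} (f : i ⟶ k) :
    S.map ((evaluation I A).obj i) ⟶ S.map ((evaluation I A).obj k) :=
  S.mapNatTrans ((evaluation I A).map f)

/-- The induction step. -/
theorem extCommutes_succ (Z : A) (p : ℕ)
    (hQ : ExtCommutes Z p (colimit.cocone S.X₃))
    (hM : ExtCommutes Z p (colimit.cocone S.X₂))
    (hM₀ : ∀ i, Subsingleton (Ext Z (S.X₂.obj i) (p + 1)))
    (hM₁ : Subsingleton (Ext Z (colimit S.X₂) (p + 1))) :
    ExtCommutes Z (p + 1) (colimit.cocone S.X₁) := by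
  have hT := shortExact_colim hS
  have hs := shortExact_app hS
  constructor
  · intro x
    obtain ⟨y, hy⟩ := Ext.covariant_sequence_exact₁ Z hT x
      (@Subsingleton.elim _ hM₁ _ _) (rfl : p + 1 = p + 1)
    obtain ⟨i, z, hz⟩ := hQ.exists_rep y
    refine ⟨i, z.comp (hs i).extClass rfl, ?_⟩
    refine (extClass_map_comm (hs i) hT (stageHom S i) z).trans ?_
    refine Eq.trans ?_ hy
    exact congrArg (fun t => Ext.comp t hT.extClass rfl) hz
  · intro i x hx
    obtain ⟨y, hy⟩ := Ext.covariant_sequence_exact₁ Z (hs i) x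
      (@Subsingleton.elim _ (hM₀ i) _ _) (rfl : p + 1 = p + 1)
    have h0 : (y.comp (Ext.mk₀ (colimit.ι S.X₃ i)) (add_zero p)).comp hT.extClass rfl = 0 := by
      refine (extClass_map_comm (hs i) hT (stageHom S i) y).symm.trans ?_
      rw [hy]
      exact hx
    obtain ⟨z, hz⟩ := Ext.covariant_sequence_exact₃ Z hT _ (rfl : p + 1 = p + 1) h0
    obtain ⟨j, w, hw⟩ := hM.exists_rep z
    let k := IsFiltered.max i j
    let a : i ⟶ k := IsFiltered.leftToMax i j
    let b : j ⟶ k := IsFiltered.rightToMax i j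
    let y' := y.comp (Ext.mk₀ (S.X₃.map a)) (add_zero p) -
      (w.comp (Ext.mk₀ (S.X₂.map b)) (add_zero p)).comp (Ext.mk₀ (S.g.app k)) (add_zero p)
    have e1 : (y.comp (Ext.mk₀ (S.X₃.map a)) (add_zero p)).comp
        (Ext.mk₀ ((colimit.cocone S.X₃).ι.app k)) (add_zero p) =
        y.comp (Ext.mk₀ (colimit.ι S.X₃ i)) (add_zero p) := by
      rw [comp_mk₀_comp_mk₀]
      exact congrArg (fun t => y.comp (Ext.mk₀ t) (add_zero p)) (colimit.w S.X₃ a)
    have e2 : ((w.comp (Ext.mk₀ (S.X₂.map b)) (add_zero p)).comp (Ext.mk₀ (S.g.app k))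
        (add_zero p)).comp (Ext.mk₀ ((colimit.cocone S.X₃).ι.app k)) (add_zero p) =
        y.comp (Ext.mk₀ (colimit.ι S.X₃ i)) (add_zero p) := by
      rw [comp_mk₀_comp_mk₀, comp_mk₀_comp_mk₀]
      refine Eq.trans ?_ hz
      rw [← hw]
      refine Eq.trans ?_ (comp_mk₀_comp_mk₀ w _ _).symm
      refine congrArg (fun t => w.comp (Ext.mk₀ t) (add_zero p)) ?_
      refine Eq.trans ?_ (Eq.refl (colimit.ι S.X₂ j ≫ colimMap S.g))
      rw [ι_colimMap, ← colimit.w S.X₃ b, S.g.naturality_assoc]
      rfl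
    have hy' : y'.comp (Ext.mk₀ ((colimit.cocone S.X₃).ι.app k)) (add_zero p) = 0 := by
      change ((Ext.mk₀ ((colimit.cocone S.X₃).ι.app k)).postcomp Z (add_zero p)) y' = 0
      rw [map_sub]
      exact sub_eq_zero.mpr (e1.trans e2.symm)
    obtain ⟨l, c, hc⟩ := hQ.exists_eq_zero k y' hy'
    refine ⟨l, a ≫ c, ?_⟩
    have h1 : (y.comp (Ext.mk₀ (S.X₃.map (a ≫ c))) (add_zero p)) =
        ((w.comp (Ext.mk₀ (S.X₂.map (b ≫ c))) (add_zero p))).comp (Ext.mk₀ (S.g.app l))
          (add_zero p) := by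
      have hc' : ((Ext.mk₀ (S.X₃.map c)).postcomp Z (add_zero p)) y' = 0 := hc
      rw [map_sub, sub_eq_zero] at hc'
      refine ((congrArg (fun t => y.comp (Ext.mk₀ t) (add_zero p)) (S.X₃.map_comp a c)).trans
        (comp_mk₀_comp_mk₀ y _ _).symm).trans (Eq.trans hc' ?_)
      refine ((congrArg (fun t => Ext.comp t _ (add_zero p)) (comp_mk₀_comp_mk₀ w _ _)).trans
        (comp_mk₀_comp_mk₀ w _ _)).trans (Eq.trans ?_ (comp_mk₀_comp_mk₀ w _ _).symm)
      refine congrArg (fun t => w.comp (Ext.mk₀ t) (add_zero p)) ?_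
      rw [S.X₂.map_comp, Category.assoc, Category.assoc, S.g.naturality]
    have h2 : x.comp (Ext.mk₀ (S.X₁.map (a ≫ c))) (add_zero (p + 1)) =
        (y.comp (Ext.mk₀ (S.X₃.map (a ≫ c))) (add_zero p)).comp (hs l).extClass rfl := by
      rw [← hy]
      exact extClass_map_comm (hs i) (hs l) (transHom S (a ≫ c)) y
    rw [h2, h1, Ext.comp_assoc_of_second_deg_zero]
    exact (congrArg (fun t => Ext.comp _ t rfl) (hs l).comp_extClass).trans (Ext.comp_zero _ _ _ _ _)

end

variable [IsFiltered I] [HasColimitsOfShape I A] [HasExactColimitsOfShape I A]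

/-- `Ext^p(Z, -)` commutes with filtered colimits. -/
theorem extCommutes (emb : A ⥤ A) (η : 𝟭 A ⟶ emb) [∀ X, Mono (η.app X)]
    [∀ X, Injective (emb.obj X)] (Z : A)
    (h₀ : ∀ F : I ⥤ A, ExtCommutes Z 0 (colimit.cocone F))
    (hI : ∀ G : I ⥤ A, (∀ i, Injective (G.obj i)) → ∀ p,
      Subsingleton (Ext Z (colimit G) (p + 1)))
    (p : ℕ) {F : I ⥤ A} (c : Cocone F) (hc : IsColimit c) : ExtCommutes Z p c := by
  refine ExtCommutes.of_iso ?_ ((colimit.isColimit F).uniqueUpToIso hc)
  clear hc c
  induction p generalizing F with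
  | zero => exact h₀ F
  | succ p ih =>
    let α : F ⟶ F ⋙ emb := Functor.whiskerLeft F η
    have : ∀ i, Mono (α.app i) := fun i => inferInstanceAs (Mono (η.app (F.obj i)))
    have : Mono α := NatTrans.mono_of_mono_app _
    let S : ShortComplex (I ⥤ A) := ShortComplex.mk α (cokernel.π α) (cokernel.condition α)
    have hS : S.ShortExact :=
      { exact := S.exact_of_g_is_cokernel (cokernelIsCokernel α) }
    exact extCommutes_succ hS Z p ih ih
      (fun i => have : Injective (S.X₂.obj i) := inferInstanceAs (Injective (emb.obj _))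
        Ext.subsingleton_of_injective _ _ p)
      (hI S.X₂ (fun i => inferInstanceAs (Injective (emb.obj _))) p)

section Emb

variable (B : Type u) [Category.{v} B] [Abelian B] [IsGrothendieckAbelian.{w} B]

open IsGrothendieckAbelian MorphismProperty

/-- A functorial choice of injective objects. -/
noncomputable def zeroArrow : B ⥤ Arrow B where
  obj X := Arrow.mk (0 : X ⟶ (0 : B))
  map f := Arrow.homMk f (𝟙 _) (by simp [(isZero_zero B).eq_of_tgt _ (0 : _ ⟶ (0 : B))])

/-- The data of the functorial embedding into injectives. -/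
noncomputable def embData : FunctorialFactorizationData (monomorphisms B) (monomorphisms B).rlp :=
  functorialFactorizationData _ _

/-- The functorial injective hull. -/
noncomputable def injEmb : B ⥤ B := zeroArrow B ⋙ (embData B).Z

/-- The natural monomorphism into the functorial injective. -/
noncomputable def injEmbι : 𝟭 B ⟶ injEmb B where
  app X := (embData B).i.app ((zeroArrow B).obj X)
  naturality _ _ f := (embData B).i.naturality ((zeroArrow B).map f)

instance (X : B) : Mono ((injEmbι B).app X) := (embData B).hi _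

instance (X : B) : Injective ((injEmb B).obj X) := by
  have h := (embData B).hp ((zeroArrow B).obj X)
  have e : ((embData B).p.app ((zeroArrow B).obj X) : (injEmb B).obj X ⟶ (0 : B)) = 0 :=
    (isZero_zero B).eq_of_tgt _ _
  refine (injective_iff_rlp_monomorphisms_zero _).2 ?_
  exact e ▸ h

end Emb

end Groth.FlatMor2.ColimCoh
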