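import Groth.Agent.FlatMor2.ColimCoh.ExtColim
import Groth.Agent.FlatMor2.ColimCoh.Cech
import Groth.Agent.SiteCohomology.CechVanishing
import Groth.Prelude.Def_CohSite

/-!
# Cohomology commutes with filtered colimits over quasi-compact objects of a site
-/

universe u

open CategoryTheory Limits Opposite

set_option synthInstance.maxHeartbeats 400000
set_option maxHeartbeats 1000000

namespace Groth.FlatMor2.ColimCoh

open Abelian

variable {C : Type u} [SmallCategory C] [HasPullbacks C] {J : GrothendieckTopology C}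
  (𝔅 : QcBasis J) {I : Type u} [SmallCategory I] [IsFiltered I]

include 𝔅

theorem extCommutes_zero {U : C} (hU : U ∈ 𝔅.B) (F : I ⥤ Sheaf J AddCommGrpCat.{u}) :
    ExtCommutes (CohCx.freeSheaf J U) 0 (colimit.cocone F) where
  exists_rep x := by
    obtain ⟨φ, rfl⟩ := (Ext.mk₀_bijective _ _).2 x
    obtain ⟨i, y, hy⟩ := rep_sections (colimit.cocone F) 𝔅 (colimit.isColimit F) hU
      (CohFree.evalGen J U _ φ)
    refine ⟨i, Ext.mk₀ (CohFree.ofSect J U _ y), ?_⟩
    rw [Ext.mk₀_comp_mk₀]
    refine congrArg Ext.mk₀ ?_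
    apply (CohFree.homEquivSect J U _).injective
    rw [CohFree.homEquivSect_apply, CohFree.homEquivSect_apply,
      Groth.SiteCohomology.evalGen_comp, CohFree.evalGen_ofSect]
    exact hy
  exists_eq_zero i x hx := by
    obtain ⟨φ, rfl⟩ := (Ext.mk₀_bijective _ _).2 x
    rw [Ext.mk₀_comp_mk₀, Ext.mk₀_eq_zero_iff] at hx
    obtain ⟨k, f, hk⟩ := eq_zero_sections (colimit.cocone F) 𝔅 (colimit.isColimit F) hU i
      (CohFree.evalGen J U _ φ) (by
        rw [← Groth.SiteCohomology.evalGen_comp, hx, map_zero])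
    refine ⟨k, f, ?_⟩
    rw [Ext.mk₀_comp_mk₀, Ext.mk₀_eq_zero_iff]
    apply (CohFree.homEquivSect J U _).injective
    rw [CohFree.homEquivSect_apply, CohFree.homEquivSect_apply,
      Groth.SiteCohomology.evalGen_comp, map_zero]
    exact hk

/-- Colimits of objectwise injective diagrams are acyclic over the basis. -/
theorem subsingleton_colimit_injective {U : C} (hU : U ∈ 𝔅.B) (G : I ⥤ Sheaf J AddCommGrpCat.{u})
    (hG : ∀ i, Injective (G.obj i)) (p : ℕ) :
    Subsingleton (Ext (CohCx.freeSheaf J U) (colimit G) (p + 1)) := by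
  refine Groth.SiteCohomology.subsingleton_HU_of_cech J 𝔅.B 𝔅.Cov
    (fun V ι Y hY => (𝔅.cov V ι Y hY).2) 𝔅.refine' (colimit G) (fun V ι Y hY q => ?_) U hU p
  refine isZero_cechH_colimit Y 𝔅 hY (colimit.isColimit G) q fun i => ?_
  have := hG i
  obtain ⟨e⟩ := Groth.SiteCohomology.nonempty_cechH_equiv_site Y J (𝔅.cov V ι Y hY).2.2.1
    (G.obj i) (q + 1) fun _ _ _ _ => inferInstance
  have : Subsingleton (CohSite.HU (G.obj i) (q + 1) V) := inferInstance
  have := @Equiv.subsingleton _ _ e.toEquiv this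
  exact AddCommGrpCat.isZero_of_subsingleton _

/-- Elementwise form. -/
theorem extCommutes_freeSheaf {U : C} (hU : U ∈ 𝔅.B) (p : ℕ) {F : I ⥤ Sheaf J AddCommGrpCat.{u}}
    (c : Cocone F) (hc : IsColimit c) : ExtCommutes (CohCx.freeSheaf J U) p c :=
  extCommutes (injEmb _) (injEmbι _) _ (extCommutes_zero 𝔅 hU)
    (fun G hG q => subsingleton_colimit_injective 𝔅 hU G hG q) p c hc

/-- `H^p(U, -)` preserves filtered colimits. -/
theorem preservesColimit_HU {U : C} (hU : U ∈ 𝔅.B) (p : ℕ) (F : I ⥤ Sheaf J AddCommGrpCat.{u}) :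
    PreservesColimit F ((Sheaf.cohomologyPresheafFunctor J p).flip.obj (op U)) := by
  have h := extCommutes_freeSheaf 𝔅 hU p _ (colimit.isColimit F)
  let H := (Sheaf.cohomologyPresheafFunctor J p).flip.obj (op U)
  refine preservesColimit_of_preserves_colimit_cocone (colimit.isColimit F) ?_
  haveI : ReflectsColimit (F ⋙ H) (CategoryTheory.forget AddCommGrpCat.{u}) :=
    reflectsColimit_of_reflectsIsomorphisms _ _
  refine isColimitOfReflects (CategoryTheory.forget AddCommGrpCat.{u}) ?_
  refine Types.FilteredColimit.isColimitOf' _ _ ?_ ?_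
  · intro x
    obtain ⟨i, y, hy⟩ := h.exists_rep x
    exact ⟨i, y, hy.symm⟩
  · intro i (x : H.obj (F.obj i)) (y : H.obj (F.obj i)) hxy
    obtain ⟨k, f, hk⟩ := h.exists_eq_zero i (x - y) (by
      change H.map ((colimit.cocone F).ι.app i) (x - y) = 0
      rw [map_sub]
      exact sub_eq_zero.2 hxy)
    refine ⟨k, f, ?_⟩
    change H.map (F.map f) (x - y) = 0 at hk
    rw [map_sub, sub_eq_zero] at hk
    exact hk

end Groth.FlatMor2.ColimCoh
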