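import Groth.Agent.SiteCohomology.CechCovers
import Mathlib.CategoryTheory.Sites.Limits
import Mathlib.CategoryTheory.Sites.LocallyBijective
import Mathlib.Algebra.Category.Grp.FilteredColimits
import Mathlib.CategoryTheory.Filtered.Basic

/-!
# Sections of filtered colimits of abelian sheaves over quasi-compact objects of a site
-/

universe u

open CategoryTheory Limits Opposite

set_option synthInstance.maxHeartbeats 400000
set_option maxHeartbeats 1000000

namespace Groth.FlatMor2.ColimCoh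

variable {C : Type u} [SmallCategory C] (J : GrothendieckTopology C)

/-- A functor on sheaves commutes with the colimit given by a cocone, in terms of elements. -/
structure Commutes {I : Type u} [SmallCategory I] {F : I ⥤ Sheaf J AddCommGrpCat.{u}}
    (T : Sheaf J AddCommGrpCat.{u} ⥤ AddCommGrpCat.{u}) (c : Cocone F) : Prop where
  exists_rep : ∀ x : T.obj c.pt, ∃ (i : I) (y : T.obj (F.obj i)), T.map (c.ι.app i) y = x
  exists_eq_zero : ∀ (i : I) (y : T.obj (F.obj i)), T.map (c.ι.app i) y = 0 →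
    ∃ (k : I) (f : i ⟶ k), T.map (F.map f) y = 0

/-- Sections over an object, as a functor on sheaves. -/
noncomputable abbrev sect (U : C) : Sheaf J AddCommGrpCat.{u} ⥤ AddCommGrpCat.{u} :=
  sheafToPresheaf J _ ⋙ (evaluation _ _).obj (op U)

/-- A basis of quasi-compact objects with finite coverings whose intersections are again in the
basis. -/
structure QcBasis [HasPullbacks C] where
  /-- The objects. -/
  B : Set C
  /-- The coverings. -/
  Cov : ∀ (U : C) (ι : Type u), (ι → Over U) → Prop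
  cov : ∀ (U : C) (ι : Type u) (Yf : ι → Over U), Cov U ι Yf → Finite ι ∧ U ∈ B ∧
      Sieve.ofArrows (fun i => (Yf i).left) (fun i => (Yf i).hom) ∈ J U ∧
      ∀ (p : ℕ) (a : Fin (p + 1) → ι), (∏ᶜ fun k => Yf (a k)).left ∈ B
  refine' : ∀ U ∈ B, ∀ T ∈ J U, ∃ (ι : Type u) (Yf : ι → Over U), Cov U ι Yf ∧
    ∀ i, T.arrows (Yf i).hom

variable {I : Type u} [SmallCategory I] {F : I ⥤ Sheaf J AddCommGrpCat.{u}} (c : Cocone F)

variable {J}

omit c in
lemma map_map {G : Cᵒᵖ ⥤ AddCommGrpCat.{u}} {P Q R : C} (h : P ⟶ Q) (h' : Q ⟶ R)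
    (z : G.obj (op R)) : G.map h.op (G.map h'.op z) = G.map (h ≫ h').op z := by
  rw [← ConcreteCategory.comp_apply, ← Functor.map_comp, ← op_comp]

lemma exists_mediator (hc : IsColimit c) :
    ∃ m : (colimit.cocone (F ⋙ sheafToPresheaf _ _)).pt ⟶ c.pt.obj,
      Presheaf.IsLocallyInjective J m ∧ Presheaf.IsLocallySurjective J m ∧
      ∀ i, (c.ι.app i).hom = (colimit.cocone (F ⋙ sheafToPresheaf _ _)).ι.app i ≫ m := by
  let E := colimit.cocone (F ⋙ sheafToPresheaf _ _)
  let e := (Sheaf.isColimitSheafifyCocone E (colimit.isColimit _)).coconePointUniqueUpToIso hc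
  let e' : sheafify J E.pt ⟶ c.pt.obj := e.hom.hom
  have : IsIso e' := inferInstanceAs (IsIso ((sheafToPresheaf _ _).map e.hom))
  refine ⟨toSheafify _ E.pt ≫ e', inferInstance, inferInstance, fun i => ?_⟩
  rw [← (Sheaf.isColimitSheafifyCocone E (colimit.isColimit _)).comp_coconePointUniqueUpToIso_hom hc i]
  rw [ObjectProperty.FullSubcategory.comp_hom, Sheaf.sheafifyCocone_ι_app_val]
  exact Category.assoc _ _ _

lemma sect_map_ι_comp (U : C) {i j : I} (f : i ⟶ j) (a : (F.obj i).obj.obj (op U)) :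
    (c.ι.app j).hom.app (op U) ((F.map f).hom.app (op U) a) = (c.ι.app i).hom.app (op U) a := by
  exact congrArg (fun m : F.obj i ⟶ c.pt => m.hom.app (op U) a) (c.w f)

lemma isSheafFor (G : Sheaf J AddCommGrpCat.{u}) {U : C} {κ : Type u} (V : κ → C)
    (g : ∀ q, V q ⟶ U) (h : Sieve.ofArrows V g ∈ J U) :
    (Presieve.ofArrows V g).IsSheafFor (G.obj ⋙ CategoryTheory.forget AddCommGrpCat.{u}) := by
  rw [Presieve.isSheafFor_iff_generate]
  exact ((isSheaf_iff_isSheaf_of_type _ _).1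
    (GrothendieckTopology.HasSheafCompose.isSheaf
      (F := CategoryTheory.forget AddCommGrpCat.{u}) G.obj G.property)) _ h

variable [IsFiltered I]

omit c in
lemma exists_common (i₀ : I) {α : Type*} [Finite α] (k : α → I) (m : ∀ a, i₀ ⟶ k a) :
    ∃ (K : I) (n : i₀ ⟶ K), ∀ a, ∃ r : k a ⟶ K, m a ≫ r = n := by
  classical
  have := Fintype.ofFinite α
  let O : Finset I := insert i₀ (Finset.univ.image k)
  have h0 : i₀ ∈ O := Finset.mem_insert_self _ _
  have hk : ∀ a, k a ∈ O := fun a =>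
    Finset.mem_insert_of_mem (Finset.mem_image_of_mem k (Finset.mem_univ a))
  obtain ⟨K, T, hT⟩ := IsFiltered.sup_exists O
    (Finset.univ.image fun a => (⟨i₀, k a, h0, hk a, m a⟩ :
      Σ' (P Q : I) (_ : P ∈ O) (_ : Q ∈ O), P ⟶ Q))
  exact ⟨K, T h0, fun a => ⟨T (hk a),
    hT h0 (hk a) (Finset.mem_image_of_mem _ (Finset.mem_univ a))⟩⟩

omit c in
lemma exists_bound {α : Type*} [Finite α] (k : α → I) : ∃ K : I, ∀ a, Nonempty (k a ⟶ K) := by
  classical
  have := Fintype.ofFinite α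
  obtain ⟨K, hK⟩ := IsFiltered.sup_objs_exists (Finset.univ.image k)
  exact ⟨K, fun a => ⟨(hK (Finset.mem_image_of_mem k (Finset.mem_univ a))).some⟩⟩

variable [HasPullbacks C] (𝔅 : QcBasis J)

theorem eq_zero_sections (hc : IsColimit c) {U : C} (hU : U ∈ 𝔅.B) (i : I)
    (y : (F.obj i).obj.obj (op U)) (hy : (c.ι.app i).hom.app (op U) y = 0) :
    ∃ (k : I) (f : i ⟶ k), (F.map f).hom.app (op U) y = 0 := by
  obtain ⟨m, hm, -, hι⟩ := exists_mediator c hc
  let E := colimit.cocone (F ⋙ sheafToPresheaf _ _)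
  have h' : m.app (op U) ((E.ι.app i).app (op U) y) =
      m.app (op U) (0 : E.pt.obj (op U)) := by
    rw [map_zero]
    refine Eq.trans ?_ hy
    rw [hι i]
    rfl
  obtain ⟨κ, Yf, hY, hYT⟩ := 𝔅.refine' U hU _ (Presheaf.equalizerSieve_mem J m _ _ h')
  have := (𝔅.cov U κ Yf hY).1
  have hq : ∀ q, ∃ (k : I) (f : i ⟶ k),
      (F.map f).hom.app (op (Yf q).left) ((F.obj i).obj.map (Yf q).hom.op y) = 0 := by
    intro q
    have key : (E.ι.app i).app (op (Yf q).left) ((F.obj i).obj.map (Yf q).hom.op y) = 0 :=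
      (NatTrans.naturality_apply (E.ι.app i) (Yf q).hom.op y).trans ((hYT q).trans (map_zero _))
    have key' : colimit.ι ((F ⋙ sheafToPresheaf _ _) ⋙ (evaluation _ _).obj (op (Yf q).left)) i
        ((F.obj i).obj.map (Yf q).hom.op y) =
      colimit.ι ((F ⋙ sheafToPresheaf _ _) ⋙ (evaluation _ _).obj (op (Yf q).left)) i 0 := by
      rw [map_zero]
      have e := congrArg (colimitObjIsoColimitCompEvaluation (F ⋙ sheafToPresheaf _ _)
        (op (Yf q).left)).hom key
      rw [map_zero] at e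
      exact (ConcreteCategory.congr_hom (colimitObjIsoColimitCompEvaluation_ι_app_hom
        (F ⋙ sheafToPresheaf _ _) i (op (Yf q).left)) _).symm.trans
          ((ConcreteCategory.comp_apply _ _ _).trans e)
    obtain ⟨k, f, g, hk⟩ := Concrete.colimit_exists_of_rep_eq _ _ _ key'
    exact ⟨k, f, hk.trans (map_zero _)⟩
  choose k f hk using hq
  obtain ⟨K, n, hn⟩ := exists_common i k f
  refine ⟨K, n, ?_⟩
  refine ((isSheafFor (F.obj K) _ _ (𝔅.cov U κ Yf hY).2.2.1).isSeparatedFor.ext ?_)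
  rintro _ _ ⟨q⟩
  obtain ⟨r, hr⟩ := hn q
  change (F.obj K).obj.map (Yf q).hom.op ((F.map n).hom.app (op U) y) =
    (F.obj K).obj.map (Yf q).hom.op 0
  rw [map_zero, ← NatTrans.naturality_apply (F.map n).hom (Yf q).hom.op y, ← hr, F.map_comp]
  change (F.map r).hom.app _ ((F.map (f q)).hom.app _ ((F.obj i).obj.map (Yf q).hom.op y)) = 0
  rw [hk q, map_zero]

theorem rep_sections (hc : IsColimit c) {U : C} (hU : U ∈ 𝔅.B) (x : c.pt.obj.obj (op U)) :
    ∃ (i : I) (y : (F.obj i).obj.obj (op U)), (c.ι.app i).hom.app (op U) y = x := by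
  obtain ⟨m, -, hm, hι⟩ := exists_mediator c hc
  obtain ⟨κ, Yf, hY, hYT⟩ := 𝔅.refine' U hU _ (Presheaf.imageSieve_mem J m (U := op U) x)
  have := (𝔅.cov U κ Yf hY).1
  have hq : ∀ q, ∃ (i : I) (t : (F.obj i).obj.obj (op (Yf q).left)),
      (c.ι.app i).hom.app (op (Yf q).left) t = c.pt.obj.map (Yf q).hom.op x := by
    intro q
    obtain ⟨t, ht⟩ := hYT q
    obtain ⟨i, t', ht'⟩ := Concrete.colimit_exists_rep
      ((F ⋙ sheafToPresheaf _ _) ⋙ (evaluation _ _).obj (op (Yf q).left))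
      ((colimitObjIsoColimitCompEvaluation (F ⋙ sheafToPresheaf _ _) (op (Yf q).left)).hom t)
    refine ⟨i, t', Eq.trans ?_ ht⟩
    have e : ((colimit.cocone (F ⋙ sheafToPresheaf _ _)).ι.app i).app (op (Yf q).left) t' = t := by
      apply (ConcreteCategory.bijective_of_isIso
        (colimitObjIsoColimitCompEvaluation (F ⋙ sheafToPresheaf _ _) (op (Yf q).left)).hom).1
      refine Eq.trans ?_ ht'
      exact (ConcreteCategory.comp_apply _ _ _).symm.trans (ConcreteCategory.congr_hom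
        (colimitObjIsoColimitCompEvaluation_ι_app_hom (F ⋙ sheafToPresheaf _ _) i (op (Yf q).left)) t')
    rw [hι i]
    exact congrArg _ e
  choose i t ht using hq
  obtain ⟨K, hK⟩ := exists_bound i
  let r := fun q => (hK q).some
  let s := fun q => (F.map (r q)).hom.app (op (Yf q).left) (t q)
  have hs : ∀ q, (c.ι.app K).hom.app (op (Yf q).left) (s q) = c.pt.obj.map (Yf q).hom.op x :=
    fun q => (sect_map_ι_comp c _ (r q) (t q)).trans (ht q)
  -- agreement on double intersections at a later stage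
  let P := fun a : Fin 2 → κ => (∏ᶜ fun k => Yf (a k)).left
  let π := fun (a : Fin 2 → κ) (k : Fin 2) => (Pi.π (fun k => Yf (a k)) k).left
  let d := fun a => (F.obj K).obj.map (π a 0).op (s (a 0)) -
    (F.obj K).obj.map (π a 1).op (s (a 1))
  have hd : ∀ a, (c.ι.app K).hom.app (op (P a)) (d a) = 0 := by
    intro a
    rw [map_sub, sub_eq_zero, NatTrans.naturality_apply (c.ι.app K).hom (π a 0).op,
      NatTrans.naturality_apply (c.ι.app K).hom (π a 1).op, hs, hs]
    change c.pt.obj.map (π a 0).op (c.pt.obj.map (Yf (a 0)).hom.op x) =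
      c.pt.obj.map (π a 1).op (c.pt.obj.map (Yf (a 1)).hom.op x)
    rw [← ConcreteCategory.comp_apply, ← Functor.map_comp, ← op_comp,
      ← ConcreteCategory.comp_apply, ← Functor.map_comp, ← op_comp]
    exact congrArg (fun g => c.pt.obj.map g.op x)
      ((Over.w (Pi.π (fun k => Yf (a k)) 0)).trans (Over.w (Pi.π (fun k => Yf (a k)) 1)).symm)
  choose l f hf using fun a => eq_zero_sections c 𝔅 hc ((𝔅.cov U κ Yf hY).2.2.2 1 a) K (d a) (hd a)
  obtain ⟨L, n, hn⟩ := exists_common K l f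
  let w := fun q => (F.map n).hom.app (op (Yf q).left) (s q)
  have hw : Presieve.Arrows.Compatible ((F.obj L).obj ⋙ CategoryTheory.forget _)
      (fun q => (Yf q).hom) w := by
    intro q q' Z g g' e
    let a : Fin 2 → κ := ![q, q']
    let br : ∀ k : Fin 2, Over.mk (g ≫ (Yf q).hom) ⟶ Yf (a k) :=
      Fin.cases (motive := fun k => Over.mk (g ≫ (Yf q).hom) ⟶ Yf (a k))
        (Over.homMk g rfl : Over.mk (g ≫ (Yf q).hom) ⟶ Yf q)
        (Fin.cases (motive := fun k => Over.mk (g ≫ (Yf q).hom) ⟶ Yf (a k.succ))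
          (Over.homMk g' e.symm : Over.mk (g ≫ (Yf q).hom) ⟶ Yf q') (fun z => z.elim0))
    let lift : Over.mk (g ≫ (Yf q).hom) ⟶ ∏ᶜ fun k => Yf (a k) := Pi.lift br
    have h0 : lift.left ≫ π a 0 = g :=
      congrArg (fun φ => Over.Hom.left φ) (Pi.lift_π br 0)
    have h1 : lift.left ≫ π a 1 = g' :=
      congrArg (fun φ => Over.Hom.left φ) (Pi.lift_π br 1)
    obtain ⟨r', hr'⟩ := hn a
    have hz : (F.map n).hom.app (op (P a)) (d a) = 0 := by
      rw [← hr', F.map_comp]
      change (F.map r').hom.app _ ((F.map (f a)).hom.app _ (d a)) = 0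
      rw [hf a, map_zero]
    rw [map_sub, sub_eq_zero, NatTrans.naturality_apply (F.map n).hom (π a 0).op,
      NatTrans.naturality_apply (F.map n).hom (π a 1).op] at hz
    have := congrArg ((F.obj L).obj.map lift.left.op) hz
    change (F.obj L).obj.map g.op ((F.map n).hom.app (op (Yf q).left) (s q)) =
      (F.obj L).obj.map g'.op ((F.map n).hom.app (op (Yf q').left) (s q'))
    refine ((congrArg (fun φ : Z ⟶ (Yf q).left => (F.obj L).obj.map φ.op _) h0.symm).trans
      (map_map lift.left (π a 0) _).symm).trans (this.trans ?_)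
    exact (map_map lift.left (π a 1) _).trans
      (congrArg (fun φ : Z ⟶ (Yf q').left => (F.obj L).obj.map φ.op _) h1)
  obtain ⟨y, hy, -⟩ := (Presieve.isSheafFor_arrows_iff _ _).1
    (isSheafFor (F.obj L) _ _ (𝔅.cov U κ Yf hY).2.2.1) w hw
  refine ⟨L, y, (isSheafFor c.pt _ _ (𝔅.cov U κ Yf hY).2.2.1).isSeparatedFor.ext ?_⟩
  rintro _ _ ⟨q⟩
  change c.pt.obj.map (Yf q).hom.op ((c.ι.app L).hom.app (op U) y) = c.pt.obj.map (Yf q).hom.op x
  refine (NatTrans.naturality_apply (c.ι.app L).hom (Yf q).hom.op y).symm.trans ?_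
  refine Eq.trans ?_ (hs q)
  exact (congrArg _ (hy q)).trans (sect_map_ι_comp c _ n (s q))

/-- Sections over an object of the basis commute with filtered colimits. -/
theorem commutes_sect (hc : IsColimit c) {U : C} (hU : U ∈ 𝔅.B) :
    Commutes J (sect J U) c :=
  ⟨rep_sections c 𝔅 hc hU, eq_zero_sections c 𝔅 hc hU⟩

end Groth.FlatMor2.ColimCoh
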