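import Groth.Agent.FlatMor2.ColimCoh.Main
import Groth.Agent.SitesTopoi.Topos.FilteredHom
import Groth.Agent.SiteCohomology.TotallyAcyclic
import Mathlib.CategoryTheory.Limits.Preserves.FunctorCategory
import Mathlib.CategoryTheory.Limits.Shapes.WidePullbacks

/-!
# Cohomology of quasi-compact sheaves of sets commutes with filtered colimits

For a class of quasi-compact sheaves of sets which is stable under fibre products and refines
every epimorphism onto one of its members.
-/

universe u

open CategoryTheory Limits Opposite Simplicial ToposFin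

set_option synthInstance.maxHeartbeats 400000
set_option maxHeartbeats 1000000
set_option linter.style.haveILetI false

namespace Groth.FlatMor2.ColimCoh

open Abelian Groth.SitesTopoi.Topos Groth.SiteCohomology

variable {C : Type u} [SmallCategory C] {J : GrothendieckTopology C}

/-- The underlying sheaf of sets. -/
noncomputable abbrev U₀ (J : GrothendieckTopology C) : Sheaf J AddCommGrpCat.{u} ⥤ Tp J :=
  sheafCompose J (CategoryTheory.forget AddCommGrpCat.{u})

variable {I : Type u} [SmallCategory I] [IsFiltered I]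

/-- Filtered colimits of abelian sheaves are computed on the underlying sheaves of sets. -/
theorem isColimit_forget {F : I ⥤ Sheaf J AddCommGrpCat.{u}} (c : Cocone F) (hc : IsColimit c) :
    Nonempty (IsColimit ((U₀ J).mapCocone c)) := by
  obtain ⟨m, hm, hm', hι⟩ := exists_mediator c hc
  let G : AddCommGrpCat.{u} ⥤ Type u := CategoryTheory.forget AddCommGrpCat.{u}
  let W := (Functor.whiskeringRight Cᵒᵖ _ _).obj G
  let E := colimit.cocone (F ⋙ sheafToPresheaf J AddCommGrpCat.{u})
  let E' : Cocone ((F ⋙ U₀ J) ⋙ sheafToPresheaf J (Type u)) :=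
    W.mapCocone E
  have hE' : IsColimit E' := isColimitOfPreserves W (colimit.isColimit _)
  let m' : E'.pt ⟶ ((U₀ J).obj c.pt).obj := Functor.whiskerRight m G
  have : Presheaf.IsLocallyInjective J m' := (Presheaf.isLocallyInjective_forget_iff J m).2 hm
  have : Presheaf.IsLocallySurjective J m' :=
    (Presheaf.isLocallySurjective_iff_whisker_forget J m).1 hm'
  let e : (Sheaf.sheafifyCocone E').pt ⟶ (U₀ J).obj c.pt :=
    ⟨sheafifyLift J m' ((U₀ J).obj c.pt).2⟩
  have : IsIso e := by
    have hiso : IsIso ((presheafToSheaf J (Type u)).map m') :=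
      (GrothendieckTopology.W_iff _ _).1 (GrothendieckTopology.W_of_isLocallyBijective (J := J) m')
    have he : e = (presheafToSheaf J (Type u)).map m' ≫
        (sheafificationAdjunction J (Type u)).counit.app ((U₀ J).obj c.pt) := by
      apply Sheaf.hom_ext
      exact (sheafifyLift_unique J m' ((U₀ J).obj c.pt).2 _ (by
        rw [ObjectProperty.FullSubcategory.comp_hom, ← Category.assoc]
        erw [← toSheafify_naturality J m']
        rw [Category.assoc]
        exact (congrArg (m' ≫ ·) ((sheafificationAdjunction J (Type u)).right_triangle_components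
          ((U₀ J).obj c.pt))).trans (Category.comp_id _))).symm
    rw [he]
    exact IsIso.comp_isIso' hiso inferInstance
  refine ⟨(Sheaf.isColimitSheafifyCocone E' hE').ofIsoColimit
    (Cocone.ext (asIso e) fun i => ?_)⟩
  apply Sheaf.hom_ext
  change ((Sheaf.sheafifyCocone E').ι.app i).hom ≫ e.hom = _
  refine (congrArg (· ≫ e.hom) (Sheaf.sheafifyCocone_ι_app_val E' i)).trans ?_
  refine (Category.assoc _ _ _).trans ?_
  refine (congrArg (E'.ι.app i ≫ ·) (toSheafify_sheafifyLift J m' _)).trans ?_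
  exact (W.map_comp _ _).symm.trans (congrArg W.map (hι i).symm)

/-- The adjunction between the free abelian sheaf and the underlying sheaf of sets, on hom-sets. -/
noncomputable def freeHomEquiv (K : Tp J) (G : Sheaf J AddCommGrpCat.{u}) :
    ((freeT J).obj K ⟶ G) ≃ (K ⟶ (U₀ J).obj G) :=
  ((freeShAdj J).homEquiv K.obj G).trans
    ⟨fun a => ⟨a⟩, fun a => a.hom, fun _ => rfl, fun _ => rfl⟩

lemma freeHomEquiv_comp {K : Tp J} {G H : Sheaf J AddCommGrpCat.{u}}
    (φ : (freeT J).obj K ⟶ G) (ψ : G ⟶ H) :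
    freeHomEquiv K H (φ ≫ ψ) = freeHomEquiv K G φ ≫ (U₀ J).map ψ :=
  Sheaf.hom_ext ((freeShAdj J).homEquiv_naturality_right φ ψ)

/-- A class of quasi-compact sheaves of sets, stable under fibre products and refining epimorphisms. -/
structure QcClass (J : GrothendieckTopology C) where
  /-- The members. -/
  P : Tp J → Prop
  qc : ∀ {K : Tp J}, P K → IsQC K
  of_isPullback : ∀ {W K L M : Tp J} {p : W ⟶ K} {q : W ⟶ L} {f : K ⟶ M} {g : L ⟶ M},
    IsPullback p q f g → P K → P L → P M → P W
  refine' : ∀ {F K : Tp J} (g : F ⟶ K), P K → Epi g →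
    ∃ (K' : Tp J) (k : K' ⟶ F), P K' ∧ Epi (k ≫ g)

variable (𝔓 : QcClass J)

namespace QcClass

lemma exists_factor {D : I ⥤ Tp J} {c : Cocone D} (hc : IsColimit c) {K : Tp J} (hK : 𝔓.P K)
    (φ : K ⟶ c.pt) : ∃ (j : I) (ψ : K ⟶ D.obj j), ψ ≫ c.ι.app j = φ := by
  obtain ⟨t, ht⟩ := finite_subcover (𝔓.qc hK) ((covers_of_isColimit hc).pullback_left φ)
  obtain ⟨i₀, hi₀⟩ := exists_common_target (fun p : t => p.1)
  have hepi : Epi (pullback.fst φ (c.ι.app i₀)) := by
    refine (covers_single_iff _).1 (ht.of_factor (fun _ => PUnit.unit)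
      (fun p => pullback.lift (pullback.fst φ (c.ι.app p.1))
        (pullback.snd φ (c.ι.app p.1) ≫ D.map (hi₀ p).some) (by
          rw [Category.assoc, c.w]; exact pullback.condition))
      fun p => pullback.lift_fst _ _ _)
  obtain ⟨K', k, hK', hk⟩ := 𝔓.refine' _ hK hepi
  obtain ⟨g, hg, y, hy⟩ : ∃ g : K' ⟶ K, Epi g ∧ ∃ y : K' ⟶ D.obj i₀, y ≫ c.ι.app i₀ = g ≫ φ :=
    ⟨k ≫ pullback.fst φ (c.ι.app i₀), hk, k ≫ pullback.snd φ (c.ι.app i₀), by
      rw [Category.assoc, Category.assoc, pullback.condition]⟩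
  obtain ⟨j, r, hr⟩ := exists_comp_eq_of_isQC hc
    (𝔓.qc (𝔓.of_isPullback (IsPullback.of_hasPullback g g) hK' hK' hK))
    (pullback.fst g g ≫ y) (pullback.snd g g ≫ y)
    (by rw [Category.assoc, Category.assoc, hy, ← Category.assoc, pullback.condition, Category.assoc])
  have hcov : Covers (fun _ : PUnit.{u + 1} => g) := (covers_single_iff g).2 hg
  obtain ⟨ψ, hψ⟩ := hcov.glue (fun _ => y ≫ D.map r) (fun _ _ U a b e => by
    obtain ⟨z, hz₁, hz₂⟩ := pb_sec_lift (IsPullback.of_hasPullback g g) a b e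
    rw [Category.assoc, Category.assoc] at hr
    rw [← hz₁, ← hz₂, ← ap_comp, ← ap_comp, hr])
  exact ⟨j, ψ, hcov.ext fun p => by rw [← Category.assoc, hψ p, Category.assoc, c.w, hy]⟩

theorem extCommutes_zero {K : Tp J} (hK : 𝔓.P K) (F : I ⥤ Sheaf J AddCommGrpCat.{u})
    (c : Cocone F) (hc : IsColimit c) : ExtCommutes ((freeT J).obj K) 0 c where
  exists_rep x := by
    obtain ⟨φ, rfl⟩ := (Ext.mk₀_bijective _ _).2 x
    obtain ⟨hc'⟩ := isColimit_forget c hc
    obtain ⟨i, ψ, hψ⟩ := 𝔓.exists_factor hc' hK (freeHomEquiv K _ φ)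
    refine ⟨i, Ext.mk₀ ((freeHomEquiv K _).symm ψ), ?_⟩
    rw [Ext.mk₀_comp_mk₀]
    refine congrArg Ext.mk₀ ((freeHomEquiv K _).injective ?_)
    rw [freeHomEquiv_comp, Equiv.apply_symm_apply]
    exact hψ
  exists_eq_zero i x hx := by
    obtain ⟨φ, rfl⟩ := (Ext.mk₀_bijective _ _).2 x
    rw [Ext.mk₀_comp_mk₀, Ext.mk₀_eq_zero_iff] at hx
    obtain ⟨hc'⟩ := isColimit_forget c hc
    obtain ⟨k, f, hf⟩ := exists_comp_eq_of_isQC hc' (𝔓.qc hK) (freeHomEquiv K _ φ)
      (freeHomEquiv K (F.obj i) 0) (by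
        refine (freeHomEquiv_comp φ (c.ι.app i)).symm.trans (Eq.trans ?_
          (freeHomEquiv_comp 0 (c.ι.app i)))
        exact congrArg (freeHomEquiv K _) (hx.trans zero_comp.symm))
    refine ⟨k, f, ?_⟩
    rw [Ext.mk₀_comp_mk₀, Ext.mk₀_eq_zero_iff]
    apply (freeHomEquiv K _).injective
    rw [← zero_comp (X := (freeT J).obj K) (f := F.map f), freeHomEquiv_comp, freeHomEquiv_comp]
    exact hf

lemma mem_widePullback {K' K : Tp J} (f : K' ⟶ K) (hK' : 𝔓.P K') (hK : 𝔓.P K) :
    ∀ n : ℕ, 𝔓.P (widePullback K (fun _ : Fin (n + 1) => K') fun _ => f)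
  | 0 => by
    let e : widePullback K (fun _ : Fin 1 => K') (fun _ => f) ≅ K' :=
      { hom := WidePullback.π (fun _ : Fin 1 => f) 0
        inv := WidePullback.lift f (fun _ : Fin 1 => 𝟙 K') (fun _ => Category.id_comp _)
        hom_inv_id := WidePullback.hom_ext _ _ _
          (fun j => by
            rw [Fin.fin_one_eq_zero j, Category.assoc, Category.id_comp]
            erw [WidePullback.lift_π]
            exact Category.comp_id _)
          (by
            rw [Category.assoc, Category.id_comp]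
            erw [WidePullback.lift_base]
            exact WidePullback.π_arrow (fun _ : Fin 1 => f) 0)
        inv_hom_id := WidePullback.lift_π _ _ _ _ _ }
    have : IsIso e.hom := e.isIso_hom
    exact 𝔓.of_isPullback (f := 𝟙 K') (g := 𝟙 K')
      (IsPullback.of_vert_isIso (fst := e.hom) (snd := e.hom) ⟨rfl⟩) hK' hK' hK'
  | n + 1 => by
    refine 𝔓.of_isPullback
      (p := WidePullback.lift (WidePullback.base _) (fun i : Fin (n + 1) =>
        WidePullback.π (fun _ : Fin (n + 2) => f) i.succ) (fun i => WidePullback.π_arrow _ i.succ))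
      (q := WidePullback.π (fun _ : Fin (n + 2) => f) 0)
      (f := WidePullback.base (fun _ : Fin (n + 1) => f)) (g := f)
      ?_ (mem_widePullback f hK' hK n) hK' hK
    refine IsPullback.of_isLimit' ⟨(WidePullback.lift_base _ _ _ _).trans
      (WidePullback.π_arrow (fun _ : Fin (n + 2) => f) 0).symm⟩ ?_
    refine PullbackCone.IsLimit.mk _
      (fun s => WidePullback.lift (s.fst ≫ WidePullback.base _)
        (Fin.cases s.snd fun i => s.fst ≫ WidePullback.π (fun _ : Fin (n + 1) => f) i)
        (fun j => by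
          refine Fin.cases ?_ (fun i => ?_) j
          · exact s.condition.symm
          · exact (Category.assoc _ _ _).trans
              (congrArg (s.fst ≫ ·) (WidePullback.π_arrow (fun _ : Fin (n + 1) => f) i))))
      (fun s => WidePullback.hom_ext _ _ _
        (fun i => by
          rw [Category.assoc, WidePullback.lift_π]
          exact WidePullback.lift_π (fun _ : Fin (n + 2) => f) _ _ _ i.succ)
        (by
          rw [Category.assoc, WidePullback.lift_base]
          exact WidePullback.lift_base (fun _ : Fin (n + 2) => f) _ _ _))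
      (fun s => WidePullback.lift_π (fun _ : Fin (n + 2) => f) _ _ _ 0)
      (fun s m h1 h2 => WidePullback.hom_ext _ _ _
        (fun j => by
          refine Fin.cases ?_ (fun i => ?_) j
          · erw [WidePullback.lift_π]
            exact h2
          · have h3 := h1 =≫ WidePullback.π (fun _ : Fin (n + 1) => f) i
            rw [Category.assoc, WidePullback.lift_π] at h3
            erw [WidePullback.lift_π]
            exact h3)
        (by
          have h3 := h1 =≫ WidePullback.base (fun _ : Fin (n + 1) => f)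
          rw [Category.assoc, WidePullback.lift_base] at h3
          exact h3.trans (WidePullback.lift_base (fun _ : Fin (n + 2) => f) _ _ _).symm))

/-- The Čech complex of a morphism, as a functor of the sheaf. -/
noncomputable def cxMap {F G : Sheaf J AddCommGrpCat.{u}} (φ : F ⟶ G) {K' K : Tp J} (f : K' ⟶ K) :
    CohCx.cechNerveCx F f ⟶ CohCx.cechNerveCx G f :=
  (AlgebraicTopology.alternatingCofaceMapComplex AddCommGrpCat.{u}).map
    (Functor.whiskerLeft (Arrow.mk f).cechNerve.rightOp
      (Functor.whiskerLeft (sheafToPresheaf J (Type u) ⋙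
        (Functor.whiskeringRight _ _ _).obj AddCommGrpCat.free.{u} ⋙
          presheafToSheaf J AddCommGrpCat.{u}).op (preadditiveYoneda.map φ)))

lemma cxMap_apply {F G : Sheaf J AddCommGrpCat.{u}} (φ : F ⟶ G) {K' K : Tp J} (f : K' ⟶ K) (n : ℕ)
    (x : (CohCx.cechNerveCx F f).X n) :
    (cxMap φ f).f n x = (show (freeT J).obj ((Arrow.mk f).cechNerve _⦋n⦌) ⟶ G from
      (show (freeT J).obj ((Arrow.mk f).cechNerve _⦋n⦌) ⟶ F from x) ≫ φ) := rfl

/-- A filtered colimit of injective sheaves has vanishing Čech cohomology for coverings in the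
class. -/
theorem isZero_cech_colimit {F : I ⥤ Sheaf J AddCommGrpCat.{u}} (c : Cocone F) (hc : IsColimit c)
    (hF : ∀ i, Injective (F.obj i)) {K' K : Tp J} (f : K' ⟶ K) [Epi f] (hK' : 𝔓.P K')
    (hK : 𝔓.P K) (p : ℕ) : IsZero ((CohCx.cechNerveCx c.pt f).homology (p + 1)) := by
  have hex : ∀ G : Sheaf J AddCommGrpCat.{u},
      IsZero ((CohCx.cechNerveCx G f).homology (p + 1)) ↔
      ((CohCx.cechNerveCx G f).sc' p (p + 1) (p + 2)).Exact := fun G => by
    refine (HomologicalComplex.exactAt_iff_isZero_homology _ (p + 1)).symm.trans ?_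
    exact HomologicalComplex.exactAt_iff' _ _ _ _ (by simp) (by simp)
  have hd : ∀ (G H : Sheaf J AddCommGrpCat.{u}) (φ : G ⟶ H) (a b : ℕ)
      (x : (CohCx.cechNerveCx G f).X a),
      (CohCx.cechNerveCx H f).d a b ((cxMap φ f).f a x) =
        (cxMap φ f).f b ((CohCx.cechNerveCx G f).d a b x) :=
    fun G H φ a b x => (ConcreteCategory.comp_apply _ _ _).symm.trans
      ((ConcreteCategory.congr_hom ((cxMap φ f).comm a b) x).trans (ConcreteCategory.comp_apply _ _ _))
  have h0 : ∀ n, ExtCommutes ((freeT J).obj ((Arrow.mk f).cechNerve _⦋n⦌)) 0 c := fun n =>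
    𝔓.extCommutes_zero (𝔓.mem_widePullback f hK' hK n) F c hc
  rw [hex, ShortComplex.ab_exact_iff]
  intro (z : (CohCx.cechNerveCx c.pt f).X (p + 1)) hz
  obtain ⟨i, y, hy⟩ := (h0 (p + 1)).exists_rep (Ext.mk₀ z)
  obtain ⟨y, rfl⟩ := (Ext.mk₀_bijective _ _).2 y
  rw [Ext.mk₀_comp_mk₀] at hy
  have hy' : (cxMap (c.ι.app i) f).f (p + 1) y = z := (Ext.mk₀_bijective _ _).1 hy
  subst hy'
  obtain ⟨k, g, hk⟩ := (h0 (p + 2)).exists_eq_zero i
    (Ext.mk₀ ((CohCx.cechNerveCx (F.obj i) f).d (p + 1) (p + 2) y)) (by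
      rw [Ext.mk₀_comp_mk₀, Ext.mk₀_eq_zero_iff]
      exact (hd _ _ (c.ι.app i) _ _ y).symm.trans hz)
  rw [Ext.mk₀_comp_mk₀, Ext.mk₀_eq_zero_iff] at hk
  have hk' : (CohCx.cechNerveCx (F.obj k) f).d (p + 1) (p + 2) ((cxMap (F.map g) f).f (p + 1) y) = 0 :=
    (hd _ _ _ _ _ y).trans hk
  have hz' : IsZero ((CohCx.cechNerveCx (F.obj k) f).homology (p + 1)) :=
    Groth.SiteCohomology.isZero_cechNerveCx_homology (F.obj k)
      (fun L q => have := hF k; Ext.subsingleton_of_injective _ _ q) f p
  obtain ⟨b, hb⟩ := (ShortComplex.ab_exact_iff _).1 ((hex _).1 hz') _ hk'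
  refine ⟨(cxMap (c.ι.app k) f).f p b, (hd _ _ _ p (p + 1) b).trans ?_⟩
  refine (congrArg ((cxMap (c.ι.app k) f).f (p + 1)) hb).trans ?_
  rw [cxMap_apply, cxMap_apply, cxMap_apply]
  exact (Category.assoc _ _ _).trans (congrArg _ (c.w g))

/-- Filtered colimits of injective sheaves are acyclic on the class. -/
theorem subsingleton_colimit_injective (G : I ⥤ Sheaf J AddCommGrpCat.{u})
    (hG : ∀ i, Injective (G.obj i)) (p : ℕ) : ∀ {K : Tp J}, 𝔓.P K →
      Subsingleton (Ext ((freeT J).obj K) (colimit G) (p + 1)) := by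
  induction p using Nat.strong_induction_on with
  | _ p ih =>
    intro K hK
    refine subsingleton_of_forall_eq 0 fun ξ => ?_
    obtain ⟨L, l, hl, hξ⟩ := Groth.SiteCohomology.exists_epi_comp_eq_zero p (colimit G) K ξ
    obtain ⟨K', k, hK', hf⟩ := 𝔓.refine' l hK hl
    have hmem : ∀ n, 𝔓.P ((Arrow.mk (k ≫ l)).cechNerve _⦋n⦌) := fun n =>
      𝔓.mem_widePullback (k ≫ l) hK' hK n
    refine eq_zero_of_isZero_homology (T := freeT J) (X := (Arrow.mk (k ≫ l)).augmentedCechNerve)
      (colimit G) (isAugResolution_cechNerve J (k ≫ l)) p (fun n q hq => ih q hq (hmem n))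
      (fun n q hq hn => ih q (by omega) (hmem n))
      (𝔓.isZero_cech_colimit _ (colimit.isColimit G) hG (k ≫ l) hK' hK p) ξ ?_
    have key : ∀ {P Q R : Sheaf J AddCommGrpCat.{u}} (a : P ⟶ Q) (b : Q ⟶ R)
        (x : Ext R (colimit G) (p + 1)), (Ext.mk₀ b).comp x (zero_add _) = 0 → ∀ c : P ⟶ R, c = a ≫ b →
          (Ext.mk₀ c).comp x (zero_add _) = 0 := fun a b x hx c hc => by
      rw [hc, ← Ext.mk₀_comp_mk₀, Ext.comp_assoc_of_second_deg_zero, hx, Ext.comp_zero]
    refine key ((freeT J).map (WidePullback.π (fun _ : Fin 1 => k ≫ l) 0 ≫ k)) ((freeT J).map l)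
      ξ hξ _ ?_
    exact (congrArg (freeT J).map ((WidePullback.π_arrow (fun _ : Fin 1 => k ≫ l) 0).symm.trans
      (Category.assoc _ _ _).symm)).trans ((freeT J).map_comp _ l)

/-- `H^p(K, -)` commutes with filtered colimits for members of the class. -/
theorem extCommutes_freeT {K : Tp J} (hK : 𝔓.P K) (p : ℕ) {F : I ⥤ Sheaf J AddCommGrpCat.{u}}
    (c : Cocone F) (hc : IsColimit c) : ExtCommutes ((freeT J).obj K) p c :=
  extCommutes (injEmb _) (injEmbι _) _
    (fun F => 𝔓.extCommutes_zero hK F _ (colimit.isColimit F))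
    (fun G hG q => 𝔓.subsingleton_colimit_injective G hG q hK) p c hc

end QcClass

end Groth.FlatMor2.ColimCoh
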